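import Groth.Agent.Sga5.ProjSurj
import Groth.Agent.Ega2.H291.MapZero
import Groth.Prelude.Def_CohB1
import Mathlib.RingTheory.MvPolynomial.Ideal
import Mathlib.AlgebraicGeometry.Limits
import Mathlib.AlgebraicGeometry.Morphisms.ClosedImmersion

/-!
# Coordinate linear subspaces and disjoint unions of closed subschemes of projective spaces

* `isClosedImmersion_coprodDesc`: closed immersions with disjoint images glue to a closed immersion of the coproduct.
* `sub`, `emb`: the closed immersion `P^n ⟶ P^N` of a coordinate linear subspace.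
-/

set_option autoImplicit false
universe u

open CategoryTheory CategoryTheory.Limits AlgebraicGeometry TopologicalSpace

namespace K429.LinEmb

/-- closed immersions with disjoint images glue to a closed immersion of the coproduct -/
theorem isClosedImmersion_coprodDesc {X Y Z : Scheme.{u}} (f : X ⟶ Z) (g : Y ⟶ Z) [IsClosedImmersion f]
    [IsClosedImmersion g] (h : Disjoint (Set.range f) (Set.range g)) : IsClosedImmersion (coprod.desc f g) := by
  have hi : ∀ x, (coprod.desc f g) ((coprod.inl : X ⟶ X ⨿ Y) x) = f x := fun x => by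
    rw [← Scheme.Hom.comp_apply, coprod.inl_desc]
  have hj : ∀ x, (coprod.desc f g) ((coprod.inr : Y ⟶ X ⨿ Y) x) = g x := fun x => by
    rw [← Scheme.Hom.comp_apply, coprod.inr_desc]
  have hcov : ∀ z : (X ⨿ Y : Scheme.{u}), (∃ x, z = (coprod.inl : X ⟶ X ⨿ Y) x) ∨ (∃ y, z = (coprod.inr : Y ⟶ X ⨿ Y) y) := by
    intro z
    obtain ⟨(x | x), rfl⟩ := (coprodMk X Y).surjective z
    · exact Or.inl ⟨x, coprodMk_inl X Y x⟩
    · exact Or.inr ⟨x, coprodMk_inr X Y x⟩
  haveI : SurjectiveOnStalks (coprod.desc f g) := by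
    refine IsZariskiLocalAtSource.of_openCover (P := @SurjectiveOnStalks) (coprodOpenCover.{u, u} X Y) ?_
    rintro (_ | _)
    · change SurjectiveOnStalks (coprod.inl ≫ coprod.desc f g)
      rw [coprod.inl_desc]
      infer_instance
    · change SurjectiveOnStalks (coprod.inr ≫ coprod.desc f g)
      rw [coprod.inr_desc]
      infer_instance
  refine ⟨Topology.IsClosedEmbedding.of_continuous_injective_isClosedMap (coprod.desc f g).continuous ?_ ?_⟩
  · intro z w hzw
    rcases hcov z with ⟨x, rfl⟩ | ⟨x, rfl⟩ <;> rcases hcov w with ⟨y, rfl⟩ | ⟨y, rfl⟩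
    · rw [hi, hi] at hzw
      rw [f.isClosedEmbedding.injective hzw]
    · rw [hi, hj] at hzw
      exact (Set.disjoint_left.mp h ⟨x, rfl⟩ ⟨y, hzw.symm⟩).elim
    · rw [hj, hi] at hzw
      exact (Set.disjoint_left.mp h ⟨y, rfl⟩ ⟨x, hzw⟩).elim
    · rw [hj, hj] at hzw
      rw [g.isClosedEmbedding.injective hzw]
  · intro C hC
    have h1 : (coprod.desc f g) '' C = f '' ((coprod.inl : X ⟶ X ⨿ Y) ⁻¹' C) ∪ g '' ((coprod.inr : Y ⟶ X ⨿ Y) ⁻¹' C) := by
      ext w
      constructor
      · rintro ⟨z, hz, rfl⟩
        rcases hcov z with ⟨x, rfl⟩ | ⟨x, rfl⟩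
        · exact Or.inl ⟨x, hz, (hi x).symm⟩
        · exact Or.inr ⟨x, hz, (hj x).symm⟩
      · rintro (⟨x, hx, rfl⟩ | ⟨x, hx, rfl⟩)
        · exact ⟨_, hx, hi x⟩
        · exact ⟨_, hx, hj x⟩
    rw [h1]
    exact (f.isClosedEmbedding.isClosedMap _ (hC.preimage (coprod.inl : X ⟶ X ⨿ Y).continuous)).union
      (g.isClosedEmbedding.isClosedMap _ (hC.preimage (coprod.inr : Y ⟶ X ⨿ Y).continuous))

theorem mem_span_X_of_pos (k : Type u) [CommRing k] {n : ℕ} {i : ℕ} (hi : 0 < i) (x : MvPolynomial (Fin (n + 1)) k)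
    (hx : x ∈ CohB1.polyGrading n k i) :
    x ∈ Ideal.span (Set.range (MvPolynomial.X : Fin (n + 1) → MvPolynomial (Fin (n + 1)) k)) := by
  rw [← Set.image_univ, MvPolynomial.mem_ideal_span_X_image]
  intro m hm
  rw [MvPolynomial.mem_homogeneousSubmodule] at hx
  have := hx (MvPolynomial.mem_support_iff.mp hm)
  by_contra hcon
  push Not at hcon
  have h0 : m = 0 := by
    ext j; simpa using hcon j (Set.mem_univ j)
  subst h0
  simp at this
  omega

section Sub

variable (k : Type u) [CommRing k] {n N : ℕ} (a : Fin (n + 1) → Fin (N + 1)) (ha : Function.Injective a)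

open Classical in
/-- the substitution killing the variables outside the image of `a` -/
noncomputable def lin (t : Fin (N + 1)) : MvPolynomial (Fin (n + 1)) k :=
  if h : ∃ s, a s = t then MvPolynomial.X h.choose else 0

include ha in
theorem lin_apply (s : Fin (n + 1)) : lin k a (a s) = MvPolynomial.X s := by
  have h : ∃ s', a s' = a s := ⟨s, rfl⟩
  rw [lin, dif_pos h]
  exact congrArg _ (ha h.choose_spec)

theorem lin_of_notMem (t : Fin (N + 1)) (h : ¬ ∃ s, a s = t) : lin k a t = 0 := by
  rw [lin, dif_neg h]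

theorem lin_isHomogeneous (t : Fin (N + 1)) : (lin k a t).IsHomogeneous 1 := by
  unfold lin
  split_ifs
  · exact MvPolynomial.isHomogeneous_X _ _
  · exact MvPolynomial.isHomogeneous_zero _ _ _

/-- the graded homomorphism killing the variables outside the image of `a` -/
noncomputable def sub : CohB1.polyGrading N k →+*ᵍ CohB1.polyGrading n k where
  toRingHom := (MvPolynomial.aeval (lin k a) : MvPolynomial (Fin (N + 1)) k →ₐ[k] _).toRingHom
  map_mem := by
    intro i x hx
    have := MvPolynomial.IsHomogeneous.aeval (S := k) (MvPolynomial.mem_homogeneousSubmodule _ _ |>.mp hx) (lin k a) (lin_isHomogeneous k a)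
    rw [one_mul] at this
    exact this

theorem sub_apply (x : MvPolynomial (Fin (N + 1)) k) : sub k a x = MvPolynomial.aeval (lin k a) x := rfl

theorem sub_X (t : Fin (N + 1)) : sub k a (MvPolynomial.X t) = lin k a t := by
  rw [sub_apply, MvPolynomial.aeval_X]

theorem sub_algebraMap (r : k) : sub k a (algebraMap k _ r) = algebraMap k _ r := by
  rw [sub_apply, AlgHom.commutes]

include ha in
theorem sub_surjective : Function.Surjective (sub k a) := by
  intro y
  refine ⟨MvPolynomial.rename a y, ?_⟩
  rw [sub_apply, MvPolynomial.aeval_rename]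
  have : lin k a ∘ a = MvPolynomial.X := funext fun s => lin_apply k a ha s
  rw [this, MvPolynomial.aeval_X_left_apply]

include ha in
theorem irrelevant_le : HomogeneousIdeal.irrelevant (CohB1.polyGrading n k) ≤
    (HomogeneousIdeal.irrelevant (CohB1.polyGrading N k)).map (sub k a) := by
  apply (HomogeneousIdeal.irrelevant_le _).mpr
  intro i hi x hx
  have h1 := mem_span_X_of_pos k hi x hx
  refine (Ideal.span_le.mpr ?_) h1
  rintro _ ⟨j, rfl⟩
  have : (MvPolynomial.X j : MvPolynomial (Fin (n + 1)) k) = sub k a (MvPolynomial.X (a j)) := by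
    rw [sub_X, lin_apply k a ha]
  rw [this]
  apply Ideal.mem_map_of_mem
  exact HomogeneousIdeal.mem_irrelevant_of_mem _ one_pos
    (by rw [MvPolynomial.mem_homogeneousSubmodule]; exact MvPolynomial.isHomogeneous_X _ _)

/-- the linear embedding -/
noncomputable def emb : CohB1.ProjSpace n k ⟶ CohB1.ProjSpace N k := Proj.map (sub k a) (irrelevant_le k a ha)

instance : IsClosedImmersion (emb k a ha) := by
  refine Groth.Agent.Sga5.ProjSurj.isClosedImmersion_map _ ?_
  intro i b hb
  obtain ⟨a', rfl⟩ := sub_surjective k a ha b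
  refine ⟨GradedRing.proj (CohB1.polyGrading N k) i a', SetLike.coe_mem _, ?_⟩
  rw [GradedRing.proj_apply, map_directSumDecompose (CohB1.polyGrading N k) (CohB1.polyGrading n k)]
  exact DirectSum.decompose_of_mem_same (CohB1.polyGrading n k) hb

theorem emb_toSpec : emb k a ha ≫ CohB1.ProjSpace.toSpec N k = CohB1.ProjSpace.toSpec n k :=
  Groth.Agent.Ega2.H291.MapZero.map_toSpec (sub k a) (irrelevant_le k a ha) (sub_algebraMap k a)

/-- the variables outside the image of `a` vanish on the image -/
theorem X_mem_of_notMem (t : Fin (N + 1)) (h : ¬ ∃ s, a s = t) (y : CohB1.ProjSpace n k) :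
    (MvPolynomial.X t : MvPolynomial (Fin (N + 1)) k) ∈
      (show ProjectiveSpectrum (CohB1.polyGrading N k) from emb k a ha y).asHomogeneousIdeal := by
  change sub k a (MvPolynomial.X t) ∈ (show ProjectiveSpectrum (CohB1.polyGrading n k) from y).asHomogeneousIdeal
  rw [sub_X, lin_of_notMem k a t h]
  exact zero_mem _

/-- no point of projective space kills all variables -/
theorem exists_X_notMem (y : CohB1.ProjSpace N k) :
    ∃ t, (MvPolynomial.X t : MvPolynomial (Fin (N + 1)) k) ∉
      (show ProjectiveSpectrum (CohB1.polyGrading N k) from y).asHomogeneousIdeal := by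
  by_contra hcon
  push Not at hcon
  refine (show ProjectiveSpectrum (CohB1.polyGrading N k) from y).not_irrelevant_le ?_
  apply (HomogeneousIdeal.irrelevant_le _).mpr
  intro i hi x hx
  refine (Ideal.span_le.mpr ?_) (mem_span_X_of_pos k hi x hx)
  rintro _ ⟨j, rfl⟩
  exact hcon j

theorem disjoint_range {m : ℕ} (b : Fin (m + 1) → Fin (N + 1)) (hb : Function.Injective b)
    (hab : ∀ s t, a s ≠ b t) : Disjoint (Set.range (emb k a ha)) (Set.range (emb k b hb)) := by
  rw [Set.disjoint_left]
  rintro w ⟨y, hy⟩ ⟨z, hz⟩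
  obtain ⟨t, ht⟩ := exists_X_notMem k w
  by_cases h : ∃ s, a s = t
  · have h2 : ¬ ∃ s, b s = t := by
      rintro ⟨s', hs'⟩
      obtain ⟨s, hs⟩ := h
      exact hab s s' (hs.trans hs'.symm)
    have := X_mem_of_notMem k b hb t h2 z
    rw [hz] at this
    exact ht this
  · have := X_mem_of_notMem k a ha t h y
    rw [hy] at this
    exact ht this

end Sub

end K429.LinEmb
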