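import Mathlib

/-!
# The maximal ideals of a finite affine scheme over an algebraically closed field
-/

set_option autoImplicit false

universe u

open CategoryTheory AlgebraicGeometry TopologicalSpace Opposite

namespace K429.FinRegList

theorem exists_list_aux {B : Type*} [CommRing B] {ι : Type*} [Fintype ι] (M : ι → Ideal B) (n : ι → ℕ) :
    ∃ l : List (Ideal B), (∀ I ∈ l, ∃ i, I = M i) ∧ l.prod = ∏ i, M i ^ n i ∧ l.length = ∑ i, n i := by
  classical
  suffices h : ∀ s : Finset ι, ∃ l : List (Ideal B), (∀ I ∈ l, ∃ i, I = M i) ∧ l.prod = ∏ i ∈ s, M i ^ n i ∧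
      l.length = ∑ i ∈ s, n i from h Finset.univ
  intro s
  induction s using Finset.induction_on with
  | empty => exact ⟨[], by simp, by simp, by simp⟩
  | insert a s ha ih =>
    obtain ⟨l, h1, h2, h3⟩ := ih
    refine ⟨List.replicate (n a) (M a) ++ l, ?_, ?_, ?_⟩
    · intro I hI
      rcases List.mem_append.mp hI with h | h
      · exact ⟨a, List.eq_of_mem_replicate h⟩
      · exact h1 I h
    · rw [List.prod_append, List.prod_replicate, h2, Finset.prod_insert ha]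
    · rw [List.length_append, List.length_replicate, h3, Finset.sum_insert ha]

variable {X : Scheme.{u}}

/-- the functions vanishing at `x` -/
noncomputable def M (x : X) : Ideal Γ(X, ⊤) := (IsLocalRing.maximalIdeal (X.presheaf.stalk x)).comap (X.presheaf.germ ⊤ x trivial).hom

instance (x : X) : (M x).IsPrime := Ideal.comap_isPrime _ _

theorem prod_eq_bot [Fintype X] (μ : X → ℕ)
    (hμ : ∀ x : X, IsLocalRing.maximalIdeal (X.presheaf.stalk x) ^ (μ x + 1) = ⊥) : ∏ x : X, M x ^ (μ x + 1) = ⊥ := by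
  classical
  rw [eq_bot_iff]
  intro s hs
  rw [Submodule.mem_bot]
  refine TopCat.Presheaf.section_ext X.sheaf ⊤ s 0 fun x hx => ?_
  have h1 : s ∈ M x ^ (μ x + 1) :=
    Ideal.le_of_dvd (Finset.dvd_prod_of_mem (fun x => M x ^ (μ x + 1)) (Finset.mem_univ x)) hs
  have h2 : (X.presheaf.germ ⊤ x trivial).hom s ∈ IsLocalRing.maximalIdeal (X.presheaf.stalk x) ^ (μ x + 1) := by
    have h3 := Ideal.mem_map_of_mem (X.presheaf.germ ⊤ x trivial).hom h1
    rw [Ideal.map_pow] at h3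
    exact Ideal.pow_right_mono Ideal.map_comap_le _ h3
  rw [hμ x, Submodule.mem_bot] at h2
  refine h2.trans (map_zero (X.presheaf.germ ⊤ x trivial).hom).symm

theorem exists_list {k : Type*} [Field k] [IsAlgClosed k] [Finite X] [IsAffine X] {N : ℕ}
    (Φ : MvPolynomial (Fin (N + 1)) k →+* Γ(X, ⊤)) (hΦ : Function.Surjective Φ) (μ : X → ℕ)
    (hμ : ∀ x : X, IsLocalRing.maximalIdeal (X.presheaf.stalk x) ^ (μ x + 1) = ⊥) :
    ∃ l : List (Ideal Γ(X, ⊤)), (∀ I ∈ l, I ≠ ⊤) ∧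
      (∀ I ∈ l, ∀ b : Γ(X, ⊤), ∃ c : k, b - Φ (MvPolynomial.C c) ∈ I) ∧ l.prod = ⊥ ∧
      (l.length : ℤ) = (∑ᶠ x : X, (μ x : ℤ)) + (Nat.card X : ℤ) := by
  classical
  haveI := Fintype.ofFinite X
  letI : Algebra k Γ(X, ⊤) := (Φ.comp MvPolynomial.C).toAlgebra
  let Φ' : MvPolynomial (Fin (N + 1)) k →ₐ[k] Γ(X, ⊤) := { Φ with commutes' := fun _ => rfl }
  haveI : Algebra.FiniteType k Γ(X, ⊤) := Algebra.FiniteType.of_surjective Φ' hΦ
  haveI : IsJacobsonRing Γ(X, ⊤) := isJacobsonRing_of_finiteType (A := k)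
  haveI : Finite (PrimeSpectrum Γ(X, ⊤)) := Finite.of_equiv X (Scheme.homeoOfIso X.isoSpec).toEquiv
  haveI : DiscreteTopology (PrimeSpectrum Γ(X, ⊤)) := inferInstance
  have hmax : ∀ x : X, (M x).IsMaximal := fun x => by
    have : IsClosed ({⟨M x, inferInstance⟩} : Set (PrimeSpectrum Γ(X, ⊤))) := isClosed_discrete _
    exact (PrimeSpectrum.isClosed_singleton_iff_isMaximal _).mp this
  obtain ⟨l, h1, h2, h3⟩ := exists_list_aux (fun x : X => M x) (fun x => μ x + 1)
  refine ⟨l, ?_, ?_, ?_, ?_⟩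
  · intro I hI
    obtain ⟨x, rfl⟩ := h1 I hI
    exact (hmax x).ne_top
  · intro I hI b
    obtain ⟨x, rfl⟩ := h1 I hI
    letI : Field (Γ(X, ⊤) ⧸ M x) := @Ideal.Quotient.field _ _ _ (hmax x)
    haveI : Module.Finite k (Γ(X, ⊤) ⧸ M x) := finite_of_finite_type_of_isJacobsonRing k _
    obtain ⟨c, hc⟩ := (IsAlgClosed.algebraMap_bijective_of_isIntegral (k := k) (K := Γ(X, ⊤) ⧸ M x)).2 (Ideal.Quotient.mk _ b)
    refine ⟨c, ?_⟩
    rw [← Ideal.Quotient.eq_zero_iff_mem, map_sub, sub_eq_zero, ← hc]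
    rfl
  · rw [h2]
    exact prod_eq_bot μ hμ
  · rw [h3, Finset.sum_add_distrib, finsum_eq_sum_of_fintype]
    push_cast
    simp [Nat.card_eq_fintype_card]

end K429.FinRegList
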