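import Groth.Agent.Variety.K429.FinRegGeom
import Groth.Agent.Variety.K429.FinRegList
import Groth.Agent.Curves.K327.NefStep
import Groth.Agent.CurvesB.TwistIdeal
import Groth.Agent.FormalB.QcSect
import Groth.Agent.FormalB.TwistGen
import Groth.Agent.Sga5.ProjReg

/-!
# Forms of large degree surject onto the functions of a finite closed subscheme of projective space
-/

set_option autoImplicit false
set_option linter.unusedSectionVars false

universe u

open CategoryTheory CategoryTheory.Limits AlgebraicGeometry TopologicalSpace Opposite TopCat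

namespace K429.FinRegMain

open Groth.Agent Groth.Agent.FormalB.GrTildeSect Groth.Agent.FormalB.GlueHom Groth.Agent.FormalB.TwistFrac
open K429.FinRegGeom Groth.Agent.Ega2 Groth.Agent.FormalB.TildeIso

section General

variable {X : Scheme.{u}}

theorem subsingleton_quot (D : X.IdealSheafData) (V : X.Opens) (hV : ∀ x ∈ V, x ∉ (D.support : Set X)) :
    Subsingleton Γ(ClSub.quotMod D, V) := by
  have h : D.subschemeι ⁻¹ᵁ V = ⊥ := by
    rw [eq_bot_iff]
    intro z hz
    have h1 : D.subschemeι z ∈ (D.support : Set X) := by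
      rw [← D.range_subschemeι]; exact ⟨z, rfl⟩
    exact absurd h1 (hV _ hz)
  have h0 : Subsingleton Γ(D.subscheme, D.subschemeι ⁻¹ᵁ V) := by
    rw [h]; infer_instance
  exact h0

/-- a section of `L ⊗ O_D` which vanishes near the support of `D` vanishes -/
theorem eq_zero_of_res {L : X.Modules} (D : X.IdealSheafData) {V : X.Opens} (U : X.Opens) (hUV : U ≤ V)
    (hU : (D.support : Set X) ⊆ U) (y : Γ(CohB1.tensorMod L (ClSub.quotMod D), V)) (hy : res _ hUV y = 0) : y = 0 := by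
  refine eq_of_local _ fun x hx => ?_
  by_cases hxU : x ∈ U
  · exact ⟨U, hUV, hxU, by rw [hy, res_zero]⟩
  · have hxD : x ∉ (D.support : Set X) := fun h => hxU (hU h)
    obtain ⟨W, i, hxW, n, m, m', h⟩ := Tens.exists_sum_tmul y hx
    let W' : X.Opens := W ⊓ ⟨(D.support : Set X)ᶜ, D.support.isClosed.isOpen_compl⟩
    haveI : Subsingleton Γ(ClSub.quotMod D, W') := subsingleton_quot D W' fun z hz => hz.2
    refine ⟨W', inf_le_left.trans i.le, ⟨hxW, hxD⟩, ?_⟩
    have h1 : res (CohB1.tensorMod L (ClSub.quotMod D)) i.le y = ∑ i, Tens.tmul (m i) (m' i) := h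
    rw [← res_res _ i.le inf_le_left, h1, res_sum, res_zero]
    refine Finset.sum_eq_zero fun l _ => ?_
    refine (Tens.tmul_res (homOfLE (inf_le_left : W' ≤ W)) (m l) (m' l)).trans ?_
    rw [Subsingleton.elim ((ClSub.quotMod D).presheaf.map (homOfLE (inf_le_left : W' ≤ W)).op (m' l)) 0, Tens.tmul_zero]

end General

variable {k : Type u} [Field k] {N : ℕ}

theorem affineOpen {f : MvPolynomial (Fin (N + 1)) k} (hf : f ∈ CohB1.polyGrading N k 1) :
    IsAffineOpen (Proj.basicOpen (CohB1.polyGrading N k) f) :=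
  Proj.isAffineOpen_basicOpen (CohB1.polyGrading N k) f hf one_pos

/-- sections of `O(j)` over `D_+(f)` -/
theorem exists_smul {f : MvPolynomial (Fin (N + 1)) k} (hf : f ∈ CohB1.polyGrading N k 1) (j : ℕ)
    (hfj : f ^ j ∈ zdeg (CohB1.polyGrading N k) ((0 : ℕ) + (j : ℤ)))
    (s : Γ(Twist.twist (CohB1.polyGrading N k) (j : ℤ), Proj.basicOpen (CohB1.polyGrading N k) f)) :
    ∃ c : Γ(Proj (CohB1.polyGrading N k), Proj.basicOpen (CohB1.polyGrading N k) f),
      s = c • tfrac (j : ℤ) _ SetLike.GradedOne.one_mem (NV.one _) hfj := by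
  obtain ⟨e, i, a, ha, hi, h⟩ := Ega3B.TwistCoh.exists_fracT hf one_pos (j : ℤ) rfl s
  have hi' : i = e + j := by omega
  subst hi'
  have hfe : f ^ (e + j) ∈ CohB1.polyGrading N k (e + j) := by
    have := mem_pow hf (e + j)
    rwa [mul_one] at this
  refine ⟨ofrac _ ha hfe ((NV.basicOpen f).pow _), tval_ext fun x => ?_⟩
  rw [tval_smul, oval_ofrac, tval_tfrac]
  refine (h x.1 x.2 (pow_notMem x.2 e)).trans ?_
  rw [Localization.mk_mul, Localization.mk_eq_mk_iff, Localization.r_iff_exists]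
  refine ⟨1, ?_⟩
  simp only [OneMemClass.coe_one, one_mul, Submonoid.coe_mul, mul_one]
  rw [pow_add]
  ring

theorem exists_deh {f : MvPolynomial (Fin (N + 1)) k} (hf : f ∈ CohB1.polyGrading N k 1)
    (c : Γ(Proj (CohB1.polyGrading N k), Proj.basicOpen (CohB1.polyGrading N k) f)) :
    ∃ Q, deh _ hf (NV.basicOpen f) Q = c := by
  have h1 : (1 : MvPolynomial (Fin (N + 1)) k) ∈ zdeg (CohB1.polyGrading N k) ((0 : ℕ) + ((0 : ℕ) : ℤ)) :=
    mem_zdeg_iff.mpr (Or.inl ⟨0, by simp, SetLike.GradedOne.one_mem⟩)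
  obtain ⟨e, i, a, ha, hi, h⟩ := Ega3B.TwistCoh.exists_fracT hf one_pos ((0 : ℕ) : ℤ) rfl
    (c • tfrac (((0 : ℕ) : ℤ)) (Proj.basicOpen (CohB1.polyGrading N k) f) SetLike.GradedOne.one_mem (NV.one _) h1)
  have hi' : i = e := by omega
  subst hi'
  have hfe : f ^ i ∈ CohB1.polyGrading N k i := by
    have := mem_pow hf i
    rwa [mul_one] at this
  refine ⟨a, ?_⟩
  rw [deh_of_mem _ hf (NV.basicOpen f) ha hfe rfl ((NV.basicOpen f).pow _)]
  refine oval_ext fun x => ?_
  have h2 := h x.1 x.2 (pow_notMem x.2 i)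
  change tval _ x = _ at h2
  rw [tval_smul, tval_tfrac] at h2
  rw [oval_ofrac, ← h2]
  rw [show (Localization.mk (1 : MvPolynomial (Fin (N + 1)) k) ⟨1, (NV.one (Proj.basicOpen (CohB1.polyGrading N k) f)) x.1 x.2⟩ :
    Twist.Loc (CohB1.polyGrading N k) x.1) = 1 from Localization.mk_one, mul_one]

theorem isCoh_L (j : ℕ) : Coh.IsCoh (X := Proj (CohB1.polyGrading N k)) (Twist.twist (CohB1.polyGrading N k) (j : ℤ)) := by
  haveI : IsNoetherian (CohB1.ProjSpace N k) := Sga5.ProjReg.isNoetherian_projSpace N k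
  exact Ega3B.TwistCoh.isCoh_twist (CohB1.polyGrading N k) _

theorem isInvertible_L (j : ℤ) : PicF.IsInvertible (Y := Proj (CohB1.polyGrading N k)) (Twist.twist (CohB1.polyGrading N k) j) :=
  FormalB.TwistGen.isInvertible_twistProjSpace N k j

section Main

variable [IsAlgClosed k] {X : Scheme.{u}} (i : X ⟶ CohB1.ProjSpace N k) [IsClosedImmersion i] [Finite X]
  (μ : X → ℕ) (hμ : ∀ x : X, IsLocalRing.maximalIdeal (X.presheaf.stalk x) ^ (μ x + 1) = ⊥)

include hμ in
/-- the algebraic core: functions on `X` are given by forms of degree `j` -/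
theorem exists_form {f : MvPolynomial (Fin (N + 1)) k} (hf : f ∈ CohB1.polyGrading N k 1)
    (hX : ∀ x : X, i x ∈ Proj.basicOpen (CohB1.polyGrading N k) f) (j : ℕ)
    (hj : (∑ᶠ x : X, (μ x : ℤ)) + (Nat.card X : ℤ) - 1 ≤ (j : ℤ))
    (c : Γ(Proj (CohB1.polyGrading N k), Proj.basicOpen (CohB1.polyGrading N k) f)) :
    ∃ Q ∈ CohB1.polyGrading N k j,
      c - deh _ hf (NV.basicOpen f) Q ∈ (Scheme.Hom.ker (Y := Proj (CohB1.polyGrading N k)) i).ideal ⟨_, affineOpen hf⟩ := by
  let P : Scheme.{u} := Proj (CohB1.polyGrading N k)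
  let U : P.Opens := Proj.basicOpen (CohB1.polyGrading N k) f
  have hU : IsAffineOpen U := affineOpen hf
  let i' : X ⟶ P := i
  haveI : IsClosedImmersion i' := ‹IsClosedImmersion i›
  have hUX : i' ⁻¹ᵁ U = ⊤ := by
    ext x
    exact iff_of_true (hX x) trivial
  haveI : IsAffine X := by
    have h1 : IsAffineOpen (i' ⁻¹ᵁ U) := hU.preimage i'
    rw [hUX] at h1
    haveI : IsAffine (⊤ : X.Opens) := h1
    exact IsAffine.of_isIso X.topIso.inv
  let ρ : Γ(P, U) →+* Γ(X, ⊤) := (i'.appLE U ⊤ hUX.ge).hom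
  have hρ : Function.Surjective ρ := by
    have h1 := i'.app_surjective U hU
    have h2 : i'.appLE U ⊤ hUX.ge = i'.app U ≫ X.presheaf.map (eqToHom hUX.symm).op := rfl
    intro b
    obtain ⟨a, ha⟩ := h1 ((X.presheaf.map (eqToHom hUX).op).hom b)
    refine ⟨a, ?_⟩
    change (i'.appLE U ⊤ hUX.ge).hom a = b
    rw [h2]
    change (X.presheaf.map (eqToHom hUX.symm).op).hom ((i'.app U).hom a) = b
    rw [show (i'.app U).hom a = _ from ha]
    change (X.presheaf.map (eqToHom hUX).op ≫ X.presheaf.map (eqToHom hUX.symm).op).hom b = b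
    rw [← X.presheaf.map_comp, ← op_comp, eqToHom_trans, eqToHom_refl, op_id, X.presheaf.map_id]
    rfl
  have hker : ∀ a : Γ(P, U), ρ a = 0 → a ∈ i'.ker.ideal ⟨U, hU⟩ := by
    intro a ha
    rw [Scheme.Hom.ker_apply, RingHom.mem_ker]
    have h2 : i'.appLE U ⊤ hUX.ge = i'.app U ≫ X.presheaf.map (eqToHom hUX.symm).op := rfl
    have h3 : (X.presheaf.map (eqToHom hUX.symm).op).hom ((i'.app U).hom a) = 0 := by
      change (i'.appLE U ⊤ hUX.ge).hom a = 0 at ha
      rw [h2] at ha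
      exact ha
    have h4 := congrArg (X.presheaf.map (eqToHom hUX).op).hom h3
    rw [map_zero] at h4
    have h5 : (X.presheaf.map (eqToHom hUX).op).hom ((X.presheaf.map (eqToHom hUX.symm).op).hom ((i'.app U).hom a)) =
        (X.presheaf.map (eqToHom hUX.symm).op ≫ X.presheaf.map (eqToHom hUX).op).hom ((i'.app U).hom a) := rfl
    rw [h5, ← X.presheaf.map_comp, ← op_comp, eqToHom_trans, eqToHom_refl, op_id, X.presheaf.map_id] at h4
    exact h4
  let Φ : MvPolynomial (Fin (N + 1)) k →+* Γ(X, ⊤) := ρ.comp (deh U hf (NV.basicOpen f))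
  have hΦ : Function.Surjective Φ := by
    intro b
    obtain ⟨c, rfl⟩ := hρ b
    obtain ⟨Q, rfl⟩ := exists_deh hf c
    exact ⟨Q, rfl⟩
  obtain ⟨l, hl0, hl1, hl2, hl3⟩ := FinRegList.exists_list Φ hΦ μ hμ
  have hff : Φ f = 1 := by
    have h1 : deh U hf (NV.basicOpen f) f = 1 := by
      rw [deh_of_mem U hf (NV.basicOpen f) hf hf (pow_one f).symm (NV.basicOpen f)]
      exact FormalB.TwistExt.ofrac_eq_one hf hf (NV.basicOpen f) rfl
    change ρ _ = 1
    rw [h1, map_one]
  obtain ⟨Q, hQ, hQc⟩ := FinRegAlg.exists_form Φ hΦ f hf hff l hl0 hl1 hl2 j (by omega) (ρ c)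
  refine ⟨Q, hQ, hker _ ?_⟩
  rw [map_sub, sub_eq_zero]
  exact hQc.symm

include hμ in
theorem app_top_surjective (j : ℕ) (hj : (∑ᶠ x : X, (μ x : ℤ)) + (Nat.card X : ℤ) - 1 ≤ (j : ℤ)) :
    Function.Surjective ((CurvesB.TwistIdeal.seq (Twist.twistProjSpace N k (j : ℤ)) i.ker).g.app ⊤) := by
  intro y
  let P : Scheme.{u} := Proj (CohB1.polyGrading N k)
  let L : P.Modules := Twist.twist (CohB1.polyGrading N k) (j : ℤ)
  let Z : P.IdealSheafData := i.ker
  obtain ⟨f, hf, hfX⟩ := exists_form_notMem (k := k) (N := N) (fun x : X => (show ProjectiveSpectrum (CohB1.polyGrading N k) from i x))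
  let U : P.Opens := Proj.basicOpen (CohB1.polyGrading N k) f
  have hU : IsAffineOpen U := affineOpen hf
  have hL : PicF.IsInvertible L := isInvertible_L j
  let S : ShortComplex P.Modules := CurvesB.TwistIdeal.seq L Z
  have hS : S.ShortExact := CurvesB.TwistIdeal.seq_shortExact hL Z
  haveI := hS.epi_g
  haveI : S.X₂.IsQuasicoherent := (VarietyA.EulerFinite.isCoh_of_iso (CurvesB.TwistIdeal.iso₂ L Z).symm (isCoh_L j)).1
  haveI : S.X₃.IsQuasicoherent := (CurvesB.TwistIdeal.isCoh_X₃ hL Z).1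
  let y' : Γ(S.X₃, ⊤) := y
  change ∃ a, S.g.app ⊤ a = y'
  obtain ⟨t, ht⟩ := FormalB.QcSect.surjective_app_of_epi S.g hU (res S.X₃ le_top y')
  have hfj : f ^ j ∈ zdeg (CohB1.polyGrading N k) ((0 : ℕ) + (j : ℤ)) :=
    mem_zdeg_iff.mpr (Or.inl ⟨j, by simp, by have := mem_pow hf j; rwa [mul_one] at this⟩)
  obtain ⟨c, hc⟩ := exists_smul hf j hfj ((Tens.runit L).hom.app U t)
  obtain ⟨Q, hQ, hcQ⟩ := exists_form i μ hμ hf hfX j hj c
  have hQj : Q ∈ zdeg (CohB1.polyGrading N k) ((0 : ℕ) + (j : ℤ)) := mem_zdeg_iff.mpr (Or.inl ⟨j, by simp, hQ⟩)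
  let G : Γ(L, U) := tfrac (j : ℤ) _ SetLike.GradedOne.one_mem (NV.one _) hfj
  let σ : Γ(L, ⊤) := tfrac (j : ℤ) _ SetLike.GradedOne.one_mem (NV.one _) hQj
  have hσ : res L le_top σ = deh U hf (NV.basicOpen f) Q • G := by
    refine tval_ext fun x => ?_
    have hfj' : f ^ j ∈ CohB1.polyGrading N k j := by have := mem_pow hf j; rwa [mul_one] at this
    rw [deh_of_mem U hf (NV.basicOpen f) hQ hfj' rfl ((NV.basicOpen f).pow _), tval_smul, oval_ofrac]
    change Localization.mk Q _ = _ * Localization.mk (f ^ j) _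
    rw [Localization.mk_mul, Localization.mk_eq_mk_iff, Localization.r_iff_exists]
    refine ⟨1, ?_⟩
    simp only [OneMemClass.coe_one, one_mul, Submonoid.coe_mul, mul_one]
    ring
  have ht2 : t = Tens.tmul (c • G) (Tens.sm (X := P) (U := U) 1) := by
    have h1 : (Tens.runit L).inv.app U ((Tens.runit L).hom.app U t) = t := by
      change ((Tens.runit L).hom ≫ (Tens.runit L).inv).app U t = t
      rw [Iso.hom_inv_id]
      rfl
    rw [← h1, hc]
    exact Tens.runit_inv_app _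
  have hg : ∀ (W : P.Opens) (m : Γ(L, W)), S.g.app W (Tens.tmul m (Tens.sm (X := P) (U := W) 1)) =
      Tens.tmul m ((ClSub.toSubscheme Z).app W (Tens.sm (X := P) (U := W) 1)) := fun W m =>
    VarietyB.TensLoc.tensorBi_map_app_tmul L (ClSub.toSubscheme Z) m _
  refine ⟨Tens.tmul σ (Tens.sm (X := P) (U := ⊤) 1), ?_⟩
  have hsupp : (Z.support : Set P) ⊆ U := by
    intro z hz
    have h1 : z ∈ Set.range i := by
      rw [← i.isClosedEmbedding.isClosed_range.closure_eq, ← Scheme.Hom.support_ker]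
      exact hz
    obtain ⟨x, rfl⟩ := h1
    exact hfX x
  have hq : (ClSub.toSubscheme Z).app U (Tens.sm (X := P) (U := U) (deh U hf (NV.basicOpen f) Q - c)) = 0 := by
    rw [← neg_sub c]
    refine (CohqA.IdealMod.toSubscheme_app_eq_zero_iff Z ⟨U, hU⟩ _).mpr ?_
    exact neg_mem hcQ
  have hz : res S.X₃ le_top (S.g.app ⊤ (Tens.tmul σ (Tens.sm (X := P) (U := ⊤) 1)) - y') = (0 : Γ(S.X₃, U)) := by
    have e1 : res S.X₂ (le_top : U ≤ ⊤) (Tens.tmul σ (Tens.sm (X := P) (U := ⊤) 1)) =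
        Tens.tmul (res L le_top σ) (Tens.sm (X := P) (U := U) 1) := by
      refine (Tens.tmul_res (homOfLE (le_top : U ≤ ⊤)) σ (Tens.sm (X := P) (U := ⊤) 1)).trans ?_
      refine congrArg (Tens.tmul _) ?_
      exact congrArg Tens.sm (map_one (P.presheaf.map (homOfLE (le_top : U ≤ ⊤)).op).hom)
    have e2 : (Tens.tmul ((deh U hf (NV.basicOpen f) Q - c) • G) ((ClSub.toSubscheme Z).app U (Tens.sm (X := P) (U := U) 1)) :
        Γ(CohB1.tensorMod L (ClSub.quotMod Z), U)) = 0 := by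
      rw [Tens.smul_tmul, ← Tens.tmul_smul, ← Scheme.Modules.Hom.app_smul]
      have e3 : (deh U hf (NV.basicOpen f) Q - c) • (Tens.sm (X := P) (U := U) 1) =
          Tens.sm (X := P) (U := U) (deh U hf (NV.basicOpen f) Q - c) := (Tens.sm_eq_smul _).symm
      rw [e3, hq, Tens.tmul_zero]
    rw [sub_smul] at e2
    have e4 : ∀ (a b : Γ(L, U)) (q : Γ(ClSub.quotMod Z, U)), Tens.tmul a q - Tens.tmul b q = Tens.tmul (a - b) q := by
      intro a b q
      rw [sub_eq_iff_eq_add, ← Tens.add_tmul, sub_add_cancel]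
    rw [res_sub, ← app_res, ← ht, ht2]
    have e5 := (congrArg (S.g.app U) e1).trans (hg U (res L le_top σ))
    refine (congrArg₂ (· - ·) e5 (hg U (c • G))).trans ?_
    change Tens.tmul (res L le_top σ) _ - Tens.tmul (c • G) _ = _
    rw [hσ]
    exact (e4 _ _ _).trans e2
  exact sub_eq_zero.mp (eq_zero_of_res (L := L) Z U le_top hsupp _ hz)

end Main

end K429.FinRegMain
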