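import Groth.Agent.VarietyB.TwistQCoh
import Groth.Agent.PerfB.TensExact
import Groth.Agent.PerfB.TensInv
import Groth.Agent.CohqB.HSeqMod

/-!
# Twisting short exact sequences on projective space, vanishing in the three positions
-/

set_option autoImplicit false
universe u

open CategoryTheory CategoryTheory.Limits AlgebraicGeometry Opposite TopologicalSpace

namespace K429.Twist

open Groth.Agent Groth.Agent.VarietyB

variable {R : Type u} [CommRing R] {n : ℕ}

/-- exactness of the twist -/
theorem shortExact_twist {S : ShortComplex (CohB1.ProjSpace n R).Modules} (hS : S.ShortExact) (t : ℤ) :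
    (S.map (DCoh.tensorRightMod (Twist.twistProjSpace n R t))).ShortExact := by
  have h := PerfB.TensExact.preservesFiniteLimits_tensorRightMod (Twist.twistProjSpace n R t)
    (PerfB.TensInv.isFlat_of_isInvertible (TwistQCoh.isInvertible_twistProjSpace n R t))
  exact hS.map_of_exact (DCoh.tensorRightMod (Twist.twistProjSpace n R t))

section

variable {X : Scheme.{u}} {S : ShortComplex X.Modules}

/-- middle term -/
theorem subsingleton_mid (hS : S.ShortExact) (q : ℕ) (h₁ : Subsingleton (Coh.HH X S.X₁ q))
    (h₃ : Subsingleton (Coh.HH X S.X₃ q)) : Subsingleton (Coh.HH X S.X₂ q) := by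
  refine subsingleton_of_forall_eq 0 fun x => ?_
  obtain ⟨y, rfl⟩ := CohqB.HSeqMod.exact₂ hS q x (Subsingleton.elim _ _)
  rw [Subsingleton.elim y 0, map_zero]

/-- right term -/
theorem subsingleton_right (hS : S.ShortExact) (q : ℕ) (h₁ : Subsingleton (Coh.HH X S.X₁ (q + 1)))
    (h₂ : Subsingleton (Coh.HH X S.X₂ q)) : Subsingleton (Coh.HH X S.X₃ q) := by
  refine subsingleton_of_forall_eq 0 fun x => ?_
  obtain ⟨y, rfl⟩ := CohqB.HSeqMod.exact₃ hS q x (Subsingleton.elim _ _)
  rw [Subsingleton.elim y 0, map_zero]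

/-- left term -/
theorem subsingleton_left (hS : S.ShortExact) (q : ℕ) (h₂ : Subsingleton (Coh.HH X S.X₂ (q + 1)))
    (h₃ : Subsingleton (Coh.HH X S.X₃ q)) : Subsingleton (Coh.HH X S.X₁ (q + 1)) := by
  refine subsingleton_of_forall_eq 0 fun x => ?_
  obtain ⟨y, rfl⟩ := CohqB.HSeqMod.exact₁ hS q x (Subsingleton.elim _ _)
  rw [Subsingleton.elim y 0, map_zero]

end

end K429.Twist
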