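import Groth.Agent.S1653
import Groth.Agent.Fga.DimLt
import Groth.Agent.Fga.IntegralSub
import Groth.Agent.Flat2D.GenFibTop

/-!
# Irreducible components and whole fibres

`f : X → Y` a morphism of schemes of finite type over a field `k`, `Y` irreducible, all fibres over closed
points irreducible of the same dimension `d`.  Every irreducible component of `X` is made up of whole fibres, etc.
-/

set_option autoImplicit false
set_option linter.style.haveILetI false
universe u

open CategoryTheory CategoryTheory.Limits AlgebraicGeometry TopologicalSpace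

namespace K429.FibDim

open Groth.Agent Groth.Agent.VarietyB

theorem dim_eq_of_homeo {A B : Type*} [TopologicalSpace A] [TopologicalSpace B] (e : A ≃ₜ B) :
    topologicalKrullDim A = topologicalKrullDim B :=
  le_antisymm e.isInducing.topologicalKrullDim_le e.symm.isInducing.topologicalKrullDim_le

/-- an irreducible set meeting an open set contained in a closed set lies in this closed set -/
theorem subset_of_meets {T : Type*} [TopologicalSpace T] {F o Z : Set T} (hF : IsIrreducible F) (ho : IsOpen o)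
    (hoZ : o ⊆ Z) (hZ : IsClosed Z) (h : (F ∩ o).Nonempty) : F ⊆ Z := by
  have h1 : F ⊆ closure (F ∩ o) := subset_closure_inter_of_isPreirreducible_of_isOpen hF.2 ho h
  exact h1.trans (closure_minimal (Set.inter_subset_right.trans hoZ) hZ)

variable (k : Type u) [Field k] {X Y : Scheme.{u}} (qX : X ⟶ Spec (CommRingCat.of k)) (qY : Y ⟶ Spec (CommRingCat.of k))
  [LocallyOfFiniteType qX] [LocallyOfFiniteType qY] (f : X ⟶ Y) (hf : f ≫ qY = qX)

include hf

omit [LocallyOfFiniteType qY] in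
theorem lft : LocallyOfFiniteType f := by
  have : LocallyOfFiniteType (f ≫ qY) := by rw [hf]; infer_instance
  exact locallyOfFiniteType_of_comp f qY

/-- dimension theory of the restriction of `f` to an irreducible closed subset -/
theorem comp_data (Z : Set X) (hZ : IsClosed Z) (hZi : IsIrreducible Z) :
    ∃ (a b : ℕ) (U : Set X), b ≤ a ∧ topologicalKrullDim ↥Z = a ∧ topologicalKrullDim ↥(closure (f '' Z)) = b ∧
      (∀ x ∈ Z, ((a - b : ℕ) : WithBot ℕ∞) ≤ topologicalKrullDim ↥(f ⁻¹' {f x} ∩ Z)) ∧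
      IsOpen U ∧ (U ∩ Z).Nonempty ∧
      ∀ x ∈ U ∩ Z, IsIrreducible (f ⁻¹' {f x} ∩ Z) → topologicalKrullDim ↥(f ⁻¹' {f x} ∩ Z) = (a - b : ℕ) := by
  obtain ⟨Z', i, hi, hint, hgen, hrange⟩ := Fga.IntegralSub.exists_integral_closed (hZi.genericPoint)
  rw [hZi.closure_genericPoint hZ] at hrange
  letI : X.Over (Spec (CommRingCat.of k)) := ⟨qX⟩
  letI : Y.Over (Spec (CommRingCat.of k)) := ⟨qY⟩
  letI : Z'.Over (Spec (CommRingCat.of k)) := ⟨i ≫ qX⟩
  haveI : LocallyOfFiniteType (Y ↘ Spec (CommRingCat.of k)) := inferInstanceAs (LocallyOfFiniteType qY)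
  haveI : LocallyOfFiniteType (Z' ↘ Spec (CommRingCat.of k)) := inferInstanceAs (LocallyOfFiniteType (i ≫ qX))
  have hf' : (i ≫ f) ≫ (Y ↘ Spec (CommRingCat.of k)) = Z' ↘ Spec (CommRingCat.of k) := by
    change (i ≫ f) ≫ qY = i ≫ qX
    rw [Category.assoc, hf]
  obtain ⟨a, ha⟩ := ResMap.exists_trd_eq k Z' (genericPoint Z')
  obtain ⟨b, hb⟩ := ResMap.exists_trd_eq k Y ((i ≫ f) (genericPoint Z'))
  have hdZ : topologicalKrullDim Z' = a := (FibreGeneric.dim_eq_iff k Z' a).mpr ha
  have hrange' : Set.range (i ≫ f) = f '' Z := by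
    rw [Scheme.Hom.comp_base, TopCat.coe_comp, Set.range_comp]
    exact congrArg _ hrange
  have hdY : topologicalKrullDim (closure (Set.range (i ≫ f).base)) = b := by
    rw [← FibreGeneric.dim_closure_eq_iff k Y] at hb
    rw [← hb, S1653.closure_range (i ≫ f) (i ≫ f).continuous]
  have key := S1653.result k Z' Y (i ≫ f) hf' a b hdZ hdY
  have hab : b ≤ a := (FibreGeneric.fibreDimAt_genericPoint k (i ≫ f) hf' a b ha hb).1
  have hemb : Topology.IsEmbedding i := i.isClosedEmbedding.isEmbedding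
  -- the fibres of `i ≫ f`
  have hom : ∀ y : Y, Nonempty ((i ≫ f).fiber y ≃ₜ ↥(f ⁻¹' {y} ∩ Z)) := by
    intro y
    have h1 : Topology.IsEmbedding (fun z : (i ≫ f).fiber y => i ((i ≫ f).fiberι y z)) :=
      hemb.comp ((i ≫ f).fiberι y).isEmbedding
    have h2 : Set.range (fun z : (i ≫ f).fiber y => i ((i ≫ f).fiberι y z)) = f ⁻¹' {y} ∩ Z := by
      ext x
      constructor
      · rintro ⟨z, rfl⟩
        refine ⟨?_, ?_⟩
        · have : (i ≫ f).fiberι y z ∈ (i ≫ f) ⁻¹' {y} := by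
            rw [← Scheme.Hom.range_fiberι]; exact ⟨z, rfl⟩
          simpa using this
        · rw [← hrange]; exact ⟨_, rfl⟩
      · rintro ⟨hx, hxZ⟩
        rw [← hrange] at hxZ
        obtain ⟨z, rfl⟩ := hxZ
        have : z ∈ Set.range ((i ≫ f).fiberι y) := by
          rw [Scheme.Hom.range_fiberι]; simpa using hx
        obtain ⟨w, rfl⟩ := this
        exact ⟨w, rfl⟩
    exact ⟨h1.toHomeomorph.trans (Homeomorph.setCongr h2)⟩
  obtain ⟨U, hU, hUeq⟩ := hemb.isInducing.isOpen_iff.mp key.2.1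
  refine ⟨a, b, U, hab, ?_, ?_, ?_, hU, ?_, ?_⟩
  · rw [← hdZ]
    exact (dim_eq_of_homeo (hemb.toHomeomorph.trans (Homeomorph.setCongr hrange))).symm
  · rw [← hdY]
    change _ = topologicalKrullDim ↥(closure (Set.range (i ≫ f)))
    rw [hrange']
  · intro x hx
    rw [← hrange] at hx
    obtain ⟨z, rfl⟩ := hx
    obtain ⟨e⟩ := hom (f (i z))
    rw [← dim_eq_of_homeo e]
    exact (key.1 z).trans (DimTop.localDim_le_dim _)
  · obtain ⟨z, hz⟩ := key.2.2.nonempty
    rw [← hUeq] at hz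
    exact ⟨i z, hz, by rw [← hrange]; exact ⟨z, rfl⟩⟩
  · rintro x ⟨hxU, hx⟩ hirr
    rw [← hrange] at hx
    obtain ⟨z, rfl⟩ := hx
    have hz : z ∈ i ⁻¹' U := hxU
    rw [hUeq] at hz
    obtain ⟨e⟩ := hom (f (i z))
    rw [← dim_eq_of_homeo e]
    have hz' : FlatMor.fibreDimAt (i ≫ f) z = (a - b : ℕ) := hz
    rw [← hz']
    let κ := Y.residueField ((i ≫ f) z)
    letI : ((i ≫ f).fiber ((i ≫ f) z)).Over (Spec (CommRingCat.of κ)) := ⟨(i ≫ f).fiberToSpecResidueField _⟩
    haveI : LocallyOfFiniteType f := lft k qX qY f hf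
    haveI : LocallyOfFiniteType (((i ≫ f).fiber ((i ≫ f) z)) ↘ (Spec (CommRingCat.of κ))) :=
      inferInstanceAs (LocallyOfFiniteType (pullback.snd (i ≫ f) (Y.fromSpecResidueField _)))
    haveI : IrreducibleSpace ((i ≫ f).fiber ((i ≫ f) z)) := by
      haveI : IrreducibleSpace ↥(f ⁻¹' {f (i z)} ∩ Z) := Subtype.irreducibleSpace hirr
      exact e.irreducibleSpace_iff.mpr inferInstance
    exact (FibreGeneric.localDim_eq_dim κ ((i ≫ f).fiber ((i ≫ f) z)) _).symm

omit [LocallyOfFiniteType qY] hf in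
theorem noetherianSpace [QuasiCompact qX] : NoetherianSpace X := by
  have h1 : IsLocallyNoetherian X := LocallyOfFiniteType.isLocallyNoetherian qX
  have h2 : CompactSpace X := by
    have := QuasiCompact.isCompact_preimage (f := qX) Set.univ isOpen_univ isCompact_univ
    exact isCompact_univ_iff.mp (by simpa using this)
  have h3 : IsNoetherian X := {}
  infer_instance

/-- Irreducible components are made up of whole fibres. -/
theorem whole [QuasiCompact qX] (d : ℕ)
    (hirr : ∀ y : Y, IsClosed ({y} : Set Y) → IsIrreducible (f ⁻¹' {y}))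
    (hdim : ∀ y : Y, IsClosed ({y} : Set Y) → topologicalKrullDim ↥(f ⁻¹' {y}) = d)
    (Z : Set X) (hZ : Z ∈ irreducibleComponents X) :
    (∃ b : ℕ, topologicalKrullDim ↥Z = (d + b : ℕ) ∧ topologicalKrullDim ↥(closure (f '' Z)) = b) ∧
      ∀ y : Y, IsClosed ({y} : Set Y) → (f ⁻¹' {y} ∩ Z).Nonempty → f ⁻¹' {y} ⊆ Z := by
  have := noetherianSpace k qX
  have hJX : JacobsonSpace X := LocallyOfFiniteType.jacobsonSpace qX
  have hJY : JacobsonSpace Y := LocallyOfFiniteType.jacobsonSpace qY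
  have hlft : LocallyOfFiniteType f := lft k qX qY f hf
  have hZc : IsClosed Z := isClosed_of_mem_irreducibleComponents Z hZ
  have hZi : IsIrreducible Z := hZ.1
  obtain ⟨a, b, U, hab, hda, hdb, hge, hU, hUne, hUd⟩ := comp_data k qX qY f hf Z hZc hZi
  obtain ⟨o, ho, hone, hoZ⟩ := NoetherianSpace.exists_isOpen_nonempty_subset_irreducibleComponent Z hZ
  have hne : (U ∩ o).Nonempty := by
    have h1 := hZi.2 U o hU ho (by rwa [Set.inter_comm]) (by
      obtain ⟨x, hx⟩ := hone
      exact ⟨x, hoZ hx, hx⟩)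
    obtain ⟨x, -, hx⟩ := h1
    exact ⟨x, hx⟩
  obtain ⟨x, ⟨hxU, hxo⟩, hxc⟩ := nonempty_inter_closedPoints hne (hU.inter ho).isLocallyClosed
  have hyc : IsClosed ({f x} : Set Y) := Scheme.Hom.closePoints_subset_preimage_closedPoints f hxc
  have hF : f ⁻¹' {f x} ⊆ Z := subset_of_meets (hirr _ hyc) ho hoZ hZc ⟨x, rfl, hxo⟩
  have hFZ : f ⁻¹' {f x} ∩ Z = f ⁻¹' {f x} := Set.inter_eq_left.mpr hF
  have h1 := hUd x ⟨hxU, hoZ hxo⟩
  rw [hFZ, hdim _ hyc] at h1
  have h2 : d = a - b := by exact_mod_cast h1 (hirr _ hyc)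
  refine ⟨⟨b, ?_, hdb⟩, ?_⟩
  · rw [hda, show a = d + b by omega]
  · intro y hy hne
    obtain ⟨z, hz, hzZ⟩ := hne
    obtain rfl : f z = y := hz
    by_contra hcon
    have h3 := Fga.DimLt.topologicalKrullDim_lt (hirr _ hy) ((hy.preimage f.continuous).inter hZc)
      Set.inter_subset_left (fun h => hcon (Set.inter_eq_left.mp h)) (d := d) (by
        rw [hdim _ hy]; exact_mod_cast Nat.lt_succ_self d)
    have h4 := hge z hzZ
    rw [← h2] at h4
    exact absurd (lt_of_le_of_lt h4 h3) (lt_irrefl _)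

/-- the dominating component is unique -/
theorem unique_dominating [QuasiCompact qX] [IrreducibleSpace Y]
    (hirr : ∀ y : Y, IsClosed ({y} : Set Y) → IsIrreducible (f ⁻¹' {y}))
    (Z₁ Z₂ : Set X) (hZ₁ : Z₁ ∈ irreducibleComponents X) (hZ₂ : Z₂ ∈ irreducibleComponents X)
    (h₁ : Dense (f '' Z₁)) (h₂ : Dense (f '' Z₂)) : Z₁ = Z₂ := by
  have := noetherianSpace k qX
  have hJX : JacobsonSpace X := LocallyOfFiniteType.jacobsonSpace qX
  have hJY : JacobsonSpace Y := LocallyOfFiniteType.jacobsonSpace qY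
  have hlft : LocallyOfFiniteType f := lft k qX qY f hf
  have key : ∀ Z ∈ irreducibleComponents X, Dense (f '' Z) → ∃ (o : Set X) (V : Set Y), IsOpen o ∧ o ⊆ Z ∧ IsOpen V ∧
      V.Nonempty ∧ V ⊆ f '' o := by
    intro Z hZ hd
    have hZc : IsClosed Z := isClosed_of_mem_irreducibleComponents Z hZ
    have hZi : IsIrreducible Z := hZ.1
    obtain ⟨o, ho, hone, hoZ⟩ := NoetherianSpace.exists_isOpen_nonempty_subset_irreducibleComponent Z hZ
    obtain ⟨x, hx⟩ := hone
    have h1 : hZi.genericPoint ∈ o := by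
      have h2 : hZi.genericPoint ⤳ x := by
        rw [specializes_iff_mem_closure, hZi.closure_genericPoint hZc]
        exact hoZ hx
      exact h2.mem_open ho hx
    have h2 : f hZi.genericPoint = genericPoint Y := by
      refine ((genericPoint_spec Y).eq ?_).symm
      change closure _ = _
      rw [Set.eq_univ_iff_forall]
      intro y
      have h3 : y ∈ closure (f '' Z) := hd y
      refine closure_minimal ?_ isClosed_closure h3
      rintro _ ⟨z, hz, rfl⟩
      have h4 : hZi.genericPoint ⤳ z := by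
        rw [specializes_iff_mem_closure, hZi.closure_genericPoint hZc]
        exact hz
      exact (h4.map f.continuous).mem_closure
    obtain ⟨V, hV, hVo⟩ := Flat2D.GenFibTop.exists_opens_subset_image f o ho _ h1 h2
    exact ⟨o, V, ho, hoZ, V.2, hV, hVo⟩
  obtain ⟨o₁, V₁, ho₁, hoZ₁, hV₁, hne₁, hsub₁⟩ := key Z₁ hZ₁ h₁
  obtain ⟨o₂, V₂, ho₂, hoZ₂, hV₂, hne₂, hsub₂⟩ := key Z₂ hZ₂ h₂
  have hZc₁ := isClosed_of_mem_irreducibleComponents Z₁ hZ₁
  have hZc₂ := isClosed_of_mem_irreducibleComponents Z₂ hZ₂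
  obtain ⟨y, ⟨hy₁, hy₂⟩, hyc⟩ := nonempty_inter_closedPoints (nonempty_preirreducible_inter hV₁ hV₂ hne₁ hne₂)
    (hV₁.inter hV₂).isLocallyClosed
  obtain ⟨x₁, hx₁, rfl⟩ := hsub₁ hy₁
  obtain ⟨x₂, hx₂, h12⟩ := hsub₂ hy₂
  have hF : f ⁻¹' {f x₁} ⊆ Z₂ := subset_of_meets (hirr _ hyc) ho₂ hoZ₂ hZc₂ ⟨x₂, h12, hx₂⟩
  have h21 : Z₂ ⊆ Z₁ := subset_of_meets hZ₂.1 ho₁ hoZ₁ hZc₁ ⟨x₁, hF rfl, hx₁⟩
  exact (hZ₂.2 hZ₁.1 h21).antisymm h21

/-- existence of a dominating component -/
theorem exists_dominating [QuasiCompact qX] [IrreducibleSpace Y]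
    (hirr : ∀ y : Y, IsClosed ({y} : Set Y) → IsIrreducible (f ⁻¹' {y})) :
    ∃ Z ∈ irreducibleComponents X, Dense (f '' Z) := by
  have := noetherianSpace k qX
  have hJY : JacobsonSpace Y := LocallyOfFiniteType.jacobsonSpace qY
  have hfin : (irreducibleComponents X).Finite := NoetherianSpace.finite_irreducibleComponents
  have h1 : (Set.univ : Set Y) ⊆ ⋃₀ ((fun Z : Set X => closure (f '' Z)) '' irreducibleComponents X) := by
    have h2 : IsClosed (⋃₀ ((fun Z : Set X => closure (f '' Z)) '' irreducibleComponents X)) := by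
      rw [Set.sUnion_image]
      exact hfin.isClosed_biUnion fun _ _ => isClosed_closure
    rw [← closure_closedPoints]
    refine closure_minimal ?_ h2
    intro y hy
    obtain ⟨x, hx⟩ := (hirr y hy).nonempty
    obtain rfl : f x = y := hx
    exact ⟨_, ⟨irreducibleComponent x, irreducibleComponent_mem_irreducibleComponents x, rfl⟩,
      subset_closure ⟨x, mem_irreducibleComponent, rfl⟩⟩
  obtain ⟨T, hT, hs⟩ := isIrreducible_iff_sUnion_isClosed.mp (IrreducibleSpace.isIrreducible_univ Y)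
    (hfin.image (fun Z : Set X => closure (f '' Z))).toFinset (by
      intro z hz
      rw [Set.Finite.mem_toFinset] at hz
      obtain ⟨Z, -, rfl⟩ := hz
      exact isClosed_closure) (by rwa [Set.Finite.coe_toFinset])
  rw [Set.Finite.mem_toFinset] at hT
  obtain ⟨Z, hZ, rfl⟩ := hT
  exact ⟨Z, hZ, fun y => hs trivial⟩

end K429.FibDim
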