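import Groth.Agent.Variety.K429.NilpCone
import Groth.Agent.Ega4B.DimFT2
import Mathlib.RingTheory.Ideal.KrullsHeightTheorem
import Mathlib.RingTheory.KrullDimension.Polynomial
import Mathlib.RingTheory.KrullDimension.Field

/-!
# The dimension of the nilpotent cone
-/

set_option autoImplicit false

open Matrix

namespace K429.NilpDim

universe u

open NilpCone

variable (k : Type u) [Field k] (n : ℕ)

abbrev R : Type u := MvPolynomial (Fin n × Fin n) k

/-- a prime containing the coefficients and the off-diagonal entries contains the diagonal entries -/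
theorem diag_mem (Q : Ideal (R k n)) [Q.IsPrime] (hI : I k n ≤ Q)
    (hoff : ∀ i j : Fin n, i ≠ j → (MvPolynomial.X (i, j) : R k n) ∈ Q) (i : Fin n) :
    (MvPolynomial.X (i, i) : R k n) ∈ Q := by
  let π := Ideal.Quotient.mk Q
  let M := (Matrix.mvPolynomialX (Fin n) (Fin n) k).map π
  have hM : M.IsUpperTriangular := by
    intro a b hab
    simp only [M, Matrix.map_apply, Matrix.mvPolynomialX_apply]
    exact Ideal.Quotient.eq_zero_iff_mem.mpr (hoff a b (ne_of_gt hab))
  have h1 := Matrix.charpoly_of_isUpperTriangular M hM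
  have h2 : M.charpoly = Polynomial.X ^ n := by
    have h2 := Matrix.charpoly_map (Matrix.mvPolynomialX (Fin n) (Fin n) k) π
    have h3 : M.charpoly.natDegree = n := by simpa using M.charpoly_natDegree_eq_dim
    refine Polynomial.ext fun i => ?_
    rw [Polynomial.coeff_X_pow]
    by_cases hi : i = n
    · rw [if_pos hi, hi]
      have := M.charpoly_monic
      rw [Polynomial.Monic, Polynomial.leadingCoeff, h3] at this
      exact this
    · rw [if_neg hi]
      rcases lt_or_gt_of_ne hi with hlt | hgt
      · change ((Matrix.mvPolynomialX (Fin n) (Fin n) k).map π).charpoly.coeff i = 0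
        rw [h2, Polynomial.coeff_map]
        exact Ideal.Quotient.eq_zero_iff_mem.mpr (hI (Ideal.subset_span ⟨⟨i, hlt⟩, rfl⟩))
      · exact Polynomial.coeff_eq_zero_of_natDegree_lt (by rw [h3]; exact hgt)
  rw [h2] at h1
  have h4 := congrArg (Polynomial.eval (M i i)) h1
  rw [Polynomial.eval_prod, Finset.prod_eq_zero (Finset.mem_univ i) (by simp), Polynomial.eval_pow, Polynomial.eval_X] at h4
  have h5 : M i i = 0 := (pow_eq_zero_iff (n := n) (by have := i.2; omega)).mp h4
  exact Ideal.Quotient.eq_zero_iff_mem.mp h5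

/-- the ideal of the origin -/
noncomputable def m : Ideal (R k n) := RingHom.ker (MvPolynomial.aeval (fun _ : Fin n × Fin n => (0 : k)) : R k n →ₐ[k] k)

instance : (m k n).IsMaximal :=
  RingHom.ker_isMaximal_of_surjective _ (fun c => ⟨MvPolynomial.C c, by simp⟩)

theorem m_le (Q : Ideal (R k n)) (h : ∀ p, (MvPolynomial.X p : R k n) ∈ Q) : m k n ≤ Q := by
  intro f hf
  have h1 : f - MvPolynomial.C (MvPolynomial.constantCoeff f) ∈ Q := by
    have : Ideal.Quotient.mk Q f = Ideal.Quotient.mk Q (MvPolynomial.C (MvPolynomial.constantCoeff f)) := by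
      have h2 : (Ideal.Quotient.mk Q) = ((Ideal.Quotient.mk Q).comp MvPolynomial.C).comp
          (MvPolynomial.constantCoeff : R k n →+* k) := by
        refine MvPolynomial.ringHom_ext (fun c => by simp) (fun p => ?_)
        simp only [RingHom.comp_apply, MvPolynomial.constantCoeff_X, map_zero]
        exact Ideal.Quotient.eq_zero_iff_mem.mpr (h p)
      exact congrArg (fun r : R k n →+* R k n ⧸ Q => r f) h2
    exact Ideal.Quotient.eq.mp this
  have h2 : MvPolynomial.constantCoeff f = 0 := by
    have : (MvPolynomial.aeval (fun _ : Fin n × Fin n => (0 : k)) f) = 0 := hf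
    rwa [show (fun _ : Fin n × Fin n => (0 : k)) = 0 from rfl, MvPolynomial.aeval_zero] at this
  rw [h2, map_zero, sub_zero] at h1
  exact h1

theorem X_mem_m (p : Fin n × Fin n) : (MvPolynomial.X p : R k n) ∈ m k n := by
  change MvPolynomial.aeval _ _ = _
  simp

theorem I_le_m : I k n ≤ m k n := by
  rw [I, Ideal.span_le]
  rintro _ ⟨i, rfl⟩
  change (MvPolynomial.aeval (fun _ : Fin n × Fin n => (0 : k)) : R k n →ₐ[k] k) _ = 0
  have h1 : (Matrix.mvPolynomialX (Fin n) (Fin n) k).map (MvPolynomial.aeval (fun _ : Fin n × Fin n => (0 : k)) : R k n →ₐ[k] k).toRingHom = 0 := by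
    ext i j
    simp [Matrix.mvPolynomialX_apply]
  have h2 := Matrix.charpoly_map (Matrix.mvPolynomialX (Fin n) (Fin n) k) (MvPolynomial.aeval (fun _ : Fin n × Fin n => (0 : k)) : R k n →ₐ[k] k).toRingHom
  rw [h1, Matrix.charpoly_of_isUpperTriangular (0 : Matrix (Fin n) (Fin n) k) (Matrix.blockTriangular_zero)] at h2
  have h4 := congrArg (fun p => p.coeff (i : ℕ)) h2
  simp only [Polynomial.coeff_map] at h4
  rw [← AlgHom.coe_toRingHom]
  refine h4.symm.trans ?_
  simp
  have := i.2
  omega

variable [IsAlgClosed k]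

theorem dim_eq : ringKrullDim (R k n ⧸ I k n) = ((n ^ 2 - n : ℕ) : WithBot ℕ∞) := by
  classical
  have hP := isPrime_radical k n
  set P := (I k n).radical with hPdef
  have hdR : ringKrullDim (R k n) = (n ^ 2 : ℕ) := by
    rw [MvPolynomial.ringKrullDim_of_isNoetherianRing, ringKrullDim_eq_zero_of_field]
    simp [sq]
  have hsame : ringKrullDim (R k n ⧸ I k n) = ringKrullDim (R k n ⧸ P) := by
    rw [ringKrullDim_quotient, ringKrullDim_quotient, hPdef, PrimeSpectrum.zeroLocus_radical]
  have h1 := Groth.Agent.Ega4B.DimFT2.height_add_dim k (R k n) P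
  have hPm : P ≤ m k n := by
    rw [hPdef, (Ideal.IsMaximal.isPrime (inferInstance : (m k n).IsMaximal)).isRadical.radical_le_iff]
    exact I_le_m k n
  -- lower bound
  have hht : P.height ≤ n := by
    have hmin : P ∈ (I k n).minimalPrimes := by
      refine ⟨⟨hP, Ideal.le_radical⟩, fun Q hQ _ => ?_⟩
      rw [hPdef, hQ.1.isRadical.radical_le_iff]
      exact hQ.2
    have h2 := Ideal.height_le_card_of_mem_minimalPrimes_span (Set.finite_range _) hmin
    refine h2.trans ?_
    have h3 : (Set.range (fun i : Fin n => (Matrix.charpoly (Matrix.mvPolynomialX (Fin n) (Fin n) k)).coeff (i : ℕ))).ncard ≤ n := by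
      rw [← Set.image_univ]
      refine (Set.ncard_image_le Set.finite_univ).trans ?_
      rw [Set.ncard_univ, Nat.card_fin]
    exact_mod_cast h3
  -- upper bound
  let A := R k n ⧸ P
  let q : Ideal A := (m k n).map (Ideal.Quotient.mk P)
  have hsurj : Function.Surjective (Ideal.Quotient.mk P) := Ideal.Quotient.mk_surjective
  have hcomap : q.comap (Ideal.Quotient.mk P) = m k n := by
    rw [Ideal.comap_map_of_surjective _ hsurj, ← RingHom.ker_eq_comap_bot, Ideal.mk_ker, sup_eq_left.mpr hPm]
  have hqprime : q.IsPrime :=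
    Ideal.map_isPrime_of_surjective hsurj (by rwa [Ideal.mk_ker])
  let s : Finset A := (Finset.univ : Finset (Fin n)).offDiag.image (fun p => Ideal.Quotient.mk P (MvPolynomial.X p))
  have hs : s.card ≤ n ^ 2 - n := by
    refine Finset.card_image_le.trans ?_
    rw [Finset.offDiag_card, Finset.card_univ, Fintype.card_fin, sq]
  have hminq : q ∈ (Ideal.span (s : Set A)).minimalPrimes := by
    refine ⟨⟨hqprime, ?_⟩, fun Q hQ _ => ?_⟩
    · rw [Ideal.span_le]
      intro x hx
      simp only [s, Finset.coe_image, Set.mem_image] at hx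
      obtain ⟨p, -, rfl⟩ := hx
      exact Ideal.mem_map_of_mem _ (X_mem_m k n p)
    · have hQp := hQ.1
      have hPQ : P ≤ Q.comap (Ideal.Quotient.mk P) := by
        intro x hx
        change Ideal.Quotient.mk P x ∈ Q
        rw [Ideal.Quotient.eq_zero_iff_mem.mpr hx]
        exact zero_mem _
      have hoff : ∀ i j : Fin n, i ≠ j → (MvPolynomial.X (i, j) : R k n) ∈ Q.comap (Ideal.Quotient.mk P) := by
        intro i j hij
        refine hQ.2 (Ideal.subset_span ?_)
        simp only [s, Finset.coe_image, Set.mem_image]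
        exact ⟨(i, j), by simpa using hij, rfl⟩
      have hQc : (Q.comap (Ideal.Quotient.mk P)).IsPrime := Ideal.comap_isPrime _ _
      have hall : m k n ≤ Q.comap (Ideal.Quotient.mk P) := by
        refine m_le k n _ fun p => ?_
        by_cases hp : p.1 = p.2
        · have := diag_mem k n (Q.comap (Ideal.Quotient.mk P)) (Ideal.le_radical.trans hPQ) hoff p.1
          rwa [show p = (p.1, p.1) from Prod.ext rfl hp.symm]
        · exact hoff p.1 p.2 hp
      exact Ideal.map_le_iff_le_comap.mpr hall
  have h2 : q.height ≤ (n ^ 2 - n : ℕ) :=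
    (Ideal.height_le_card_of_mem_minimalPrimes_span_finset hminq).trans (by exact_mod_cast hs)
  have h3 := Groth.Agent.Ega4B.DimFT2.height_add_dim k A q
  have hqmax : q.IsMaximal :=
    (Ideal.map_eq_top_or_isMaximal_of_surjective _ hsurj (inferInstance : (m k n).IsMaximal)).resolve_left hqprime.ne_top
  have h4 : ringKrullDim (A ⧸ q) = 0 := by
    letI := Ideal.Quotient.field q
    exact ringKrullDim_eq_zero_of_field _
  rw [h4, add_zero] at h3
  rw [hsame, ← h3]
  rw [← h3, hdR] at h1
  have h5 : P.height + q.height = (n ^ 2 : ℕ) := by exact_mod_cast h1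
  have hqt : q.height ≠ ⊤ := ne_top_of_le_ne_top (ENat.natCast_ne_top _) h2
  have hPt : P.height ≠ ⊤ := ne_top_of_le_ne_top (ENat.natCast_ne_top _) hht
  obtain ⟨a, ha⟩ := ENat.ne_top_iff_exists.mp hPt
  obtain ⟨b, hb⟩ := ENat.ne_top_iff_exists.mp hqt
  rw [← ha, ← hb] at h5
  rw [← ha] at hht
  rw [← hb] at h2 ⊢
  have e1 : a + b = n ^ 2 := by exact_mod_cast h5
  have e2 : a ≤ n := by exact_mod_cast hht
  have e3 : b ≤ n ^ 2 - n := by exact_mod_cast h2
  have : b = n ^ 2 - n := by omega
  rw [this]
  rfl

end K429.NilpDim
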