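import Groth.Agent.Flat2B.GenDim
import Groth.Agent.Ega2.GeoRelDim
import Mathlib.AlgebraicGeometry.Morphisms.Smooth
import Mathlib.AlgebraicGeometry.FunctionField
import Mathlib.AlgebraicGeometry.Noetherian

/-!
# Generic smoothness on the source, with relative dimension
-/

set_option autoImplicit false
universe u

open CategoryTheory CategoryTheory.Limits AlgebraicGeometry TopologicalSpace

namespace K429.GenSm

open Groth.Agent Groth.Agent.CycB.TrdegAlg Groth.Agent.Flat2B

/-- transcendence degree of the fraction fields of a standard smooth extension of domains -/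
theorem trd_of_standardSmooth {A E K L : Type u} [CommRing A] [CommRing E] [IsDomain A] [IsDomain E] [Field K] [Field L]
    (φ : A →+* E) (n : ℕ) (h : φ.IsStandardSmoothOfRelativeDimension n) (ψA : A →+* K) (ψE : E →+* L) (θ : K →+* L)
    (comm : θ.comp ψA = ψE.comp φ) (hA : FracGen ψA) (hE : FracGen ψE) (hiA : Function.Injective ψA)
    (hiE : Function.Injective ψE) : trd θ = n := by
  have hiφ : Function.Injective φ := by
    have h1 : Function.Injective (ψE.comp φ) := by
      rw [← comm]
      exact θ.injective.comp hiA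
    exact Function.Injective.of_comp h1
  letI := φ.toAlgebra
  have hlies : (⊥ : Ideal E).LiesOver (⊥ : Ideal A) := ⟨(Ideal.comap_bot_of_injective φ hiφ).symm⟩
  have h1 := GenDim.rtd_eq_of_isStandardSmooth n h (⊥ : Ideal A) (⊥ : Ideal E) (fun q' _ _ h => le_bot_iff.mp h)
  rw [FlatDim.rtd_eq_trdeg_quotient] at h1
  rw [← h1]
  exact trd_eq_trd_quotientMap φ ψA ψE θ comm hA hE ⊥ ((RingHom.injective_iff_ker_eq_bot ψA).mp hiA).symm ⊥
    ((RingHom.injective_iff_ker_eq_bot ψE).mp hiE).symm _

/-- germs are fractions -/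
theorem fracGen_germ {X : Scheme.{u}} (V : X.Opens) (hV : IsAffineOpen V) (x : X) (hx : x ∈ V)
    (hf : IsField (X.presheaf.stalk x)) :
    letI := hf.toField
    FracGen (X.presheaf.germ V x hx).hom := by
  letI := hf.toField
  intro z
  letI : Algebra Γ(X, V) (X.presheaf.stalk x) := (X.presheaf.germ V x hx).hom.toAlgebra
  have hloc : IsLocalization.AtPrime (X.presheaf.stalk x) (hV.primeIdealOf ⟨x, hx⟩).asIdeal :=
    hV.isLocalization_stalk ⟨x, hx⟩
  obtain ⟨⟨a, s⟩, h⟩ := IsLocalization.surj (hV.primeIdealOf ⟨x, hx⟩).asIdeal.primeCompl z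
  exact ⟨a, s, (IsLocalization.map_units (X.presheaf.stalk x) s).ne_zero, h⟩

/-- The smooth chart at a point where the map on stalks is formally smooth -/
theorem exists_chart {X Y : Scheme.{u}} (π : X ⟶ Y) [LocallyOfFinitePresentation π] (x : X)
    (h : (π.stalkMap x).hom.FormallySmooth) :
    ∃ (n : ℕ) (U : Y.Opens) (_ : IsAffineOpen U) (V : X.Opens) (_ : IsAffineOpen V) (_ : x ∈ V) (e : V ≤ π ⁻¹ᵁ U),
      (π.appLE U V e).hom.IsStandardSmoothOfRelativeDimension n := by
  obtain ⟨U, hU, V, hV, e, hx, H⟩ := exists_smooth_of_formallySmooth_stalk π x h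
  algebraize [(π.appLE U V e).hom]
  let p := hV.primeIdealOf ⟨x, hx⟩
  have hsm : Algebra.Smooth Γ(Y, U) Γ(X, V) := inferInstance
  have hat : Algebra.IsSmoothAt Γ(Y, U) p.asIdeal := inferInstance
  obtain ⟨g, hg, hst⟩ := Algebra.IsSmoothAt.exists_notMem_isStandardSmooth (R := Γ(Y, U)) p.asIdeal
  have hloc := hV.isLocalization_basicOpen g
  have hxg : x ∈ X.basicOpen g := by
    rw [X.mem_basicOpen g x hx]
    letI : Algebra Γ(X, V) (X.presheaf.stalk x) := (X.presheaf.germ V x hx).hom.toAlgebra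
    have hloc : IsLocalization.AtPrime (X.presheaf.stalk x) (hV.primeIdealOf ⟨x, hx⟩).asIdeal :=
      hV.isLocalization_stalk ⟨x, hx⟩
    exact IsLocalization.map_units (X.presheaf.stalk x) (⟨g, hg⟩ : p.asIdeal.primeCompl)
  letI : Algebra Γ(Y, U) Γ(X, X.basicOpen g) := (π.appLE U (X.basicOpen g) ((X.basicOpen_le g).trans e)).hom.toAlgebra
  haveI : IsScalarTower Γ(Y, U) Γ(X, V) Γ(X, X.basicOpen g) := by
    refine IsScalarTower.of_algebraMap_eq' ?_
    change (π.appLE U (X.basicOpen g) _).hom = (X.presheaf.map (homOfLE (X.basicOpen_le g)).op).hom.comp (π.appLE U V e).hom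
    rw [← CommRingCat.hom_comp, Scheme.Hom.appLE_map]
  let ε : Localization.Away g ≃ₐ[Γ(X, V)] Γ(X, X.basicOpen g) := IsLocalization.algEquiv (Submonoid.powers g) _ _
  have hst' : Algebra.IsStandardSmooth Γ(Y, U) Γ(X, X.basicOpen g) :=
    Algebra.IsStandardSmooth.of_algEquiv (ε.restrictScalars Γ(Y, U))
  obtain ⟨ι, σ, hσ, hι, ⟨P⟩⟩ := hst'.out
  exact ⟨P.dimension, U, hU, X.basicOpen g, hV.basicOpen g, hxg, (X.basicOpen_le g).trans e, ⟨ι, σ, hσ, hι, P, rfl⟩⟩

/-- Formal smoothness of the map of stalks at the generic points in characteristic zero -/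
theorem formallySmooth_stalkMap {X Y : Scheme.{u}} (π : X ⟶ Y) [LocallyOfFiniteType π] (x : X)
    (hX : IsField (X.presheaf.stalk x)) (hY : IsField (Y.presheaf.stalk (π x)))
    (h0 : CharZero (Y.presheaf.stalk (π x))) :
    (π.stalkMap x).hom.FormallySmooth := by
  have h1 := LocallyOfFiniteType.stalkMap π x
  letI : Field (X.presheaf.stalk x) := hX.toField
  letI : Field (Y.presheaf.stalk (π x)) := hY.toField
  algebraize [(π.stalkMap x).hom]
  haveI : CharZero (Y.presheaf.stalk (π x)) := h0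
  exact Algebra.FormallySmooth.of_perfectField

end K429.GenSm
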