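import Groth.Agent.Variety.K429.BertiniAlg
import Groth.Agent.Pi1C.ZeroScheme
import Groth.Agent.LoccohA.OmClosed
import Groth.Prelude.Def_Formal
import Mathlib.AlgebraicGeometry.Morphisms.Smooth

/-!
# Smoothness of zero schemes of sections, affine-locally
-/

set_option autoImplicit false
universe u

open CategoryTheory CategoryTheory.Limits AlgebraicGeometry TopologicalSpace Opposite
open Groth.Agent.Fdesc.LocGen

namespace K429.BertiniGeom

/-- the structure map of the sections over `U` -/
noncomputable abbrev str {X : Scheme.{u}} {R : Type u} [CommRing R] (q : X ⟶ Spec (CommRingCat.of R)) (U : X.Opens) :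
    R →+* Γ(X, U) := (X.presheaf.map (homOfLE le_top : U ⟶ ⊤).op).hom.comp (Coh.toGlobal q)

/-- smoothness of a closed subscheme over an affine base, read off a cover by affine opens -/
theorem smooth_subscheme {X : Scheme.{u}} {R : Type u} [CommRing R] (q : X ⟶ Spec (CommRingCat.of R)) (I : X.IdealSheafData)
    {ι : Type*} (U : ι → X.affineOpens) (hU : ⨆ i, (U i).1 = ⊤)
    (h : ∀ i, ((Ideal.Quotient.mk (I.ideal (U i))).comp (str q (U i).1)).Smooth) : Smooth (I.subschemeι ≫ q) := by
  refine IsZariskiLocalAtSource.of_iSup_eq_top (P := @Smooth) (fun i => I.subschemeι ⁻¹ᵁ (U i).1) ?_ fun i => ?_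
  · rw [← Scheme.Hom.preimage_iSup, hU, Scheme.Hom.preimage_top]
  · have hr : Set.range (I.subschemeCover.f (U i)) = Set.range ((I.subschemeι ⁻¹ᵁ (U i).1).ι) := by
      rw [Scheme.Opens.range_ι, ← I.opensRange_subschemeCover_map (U i)]
      rfl
    have h1 : I.subschemeCover.f (U i) ≫ I.subschemeι ≫ q =
        Spec.map (CommRingCat.ofHom ((Ideal.Quotient.mk (I.ideal (U i))).comp (str q (U i).1))) := by
      rw [← Category.assoc]
      refine (congrArg (fun t => t ≫ q) (I.subschemeCover_map_subschemeι (U i))).trans ?_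
      change ((Spec.map (CommRingCat.ofHom (Ideal.Quotient.mk (I.ideal (U i)))) ≫ (U i).2.isoSpec.inv) ≫ (U i).1.ι) ≫ q = _
      rw [Category.assoc, Category.assoc, IsAffineOpen.isoSpec_inv_ι_assoc,
        Groth.Agent.LoccohA.OmClosed.fromSpec_comp, ← Spec.map_comp]
      rfl
    rw [← IsOpenImmersion.isoOfRangeEq_inv_fac (I.subschemeCover.f (U i)) (Scheme.Opens.ι _) hr, Category.assoc,
      MorphismProperty.cancel_left_of_respectsIso (P := @Smooth), h1]
    exact (HasRingHomProperty.Spec_iff (P := @Smooth)
      (φ := CommRingCat.ofHom ((Ideal.Quotient.mk (I.ideal (U i))).comp (str q (U i).1)))).mpr (h i)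

/-- the structure map of an affine open of a smooth scheme is smooth -/
theorem smooth_str {X : Scheme.{u}} {R : Type u} [CommRing R] (q : X ⟶ Spec (CommRingCat.of R)) [Smooth q] {U : X.Opens}
    (hU : IsAffineOpen U) : (str q U).Smooth := by
  have h1 : Smooth (hU.fromSpec ≫ q) := inferInstance
  rw [Groth.Agent.LoccohA.OmClosed.fromSpec_comp, HasRingHomProperty.Spec_iff (P := @Smooth)] at h1
  exact h1

theorem sec_smulMod {k : Type u} [CommRing k] {X : Scheme.{u}} [X.Over (Spec (CommRingCat.of k))] {L : X.Modules}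
    (s : Coh.structureModule X ⟶ L) (c : k) (U : X.Opens) :
    sec (Formal.smulMod k (Coh.structureModule X) c ≫ s) U = str (X ↘ Spec (CommRingCat.of k)) U c • sec s U := by
  have h1 : (Formal.smulMod k (Coh.structureModule X) c).app U (one U) =
      ofFun (str (X ↘ Spec (CommRingCat.of k)) U c) := by
    change (str (X ↘ Spec (CommRingCat.of k)) U c) • (one U) = _
    rw [ofFun_eq_smul]
  change s.app U ((Formal.smulMod k (Coh.structureModule X) c).app U (one U)) = _
  rw [h1, app_ofFun]

theorem sec_sum {X : Scheme.{u}} {L : X.Modules} {ι : Type*} (t : Finset ι) (s : ι → (Coh.structureModule X ⟶ L)) (U : X.Opens) :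
    sec (∑ i ∈ t, s i) U = ∑ i ∈ t, sec (s i) U := by
  classical
  induction t using Finset.induction_on with
  | empty => 
    rw [Finset.sum_empty, Finset.sum_empty]
    rfl
  | insert a t ha ih =>
    rw [Finset.sum_insert ha, Finset.sum_insert ha, ← ih]
    rfl

end K429.BertiniGeom
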