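import Groth.Agent.Variety.K429.TwAlg
import Groth.Agent.CycB.CohProp
import Groth.Agent.Ega3B.TwistCoh
import Groth.Agent.Sga5.ProjReg
import Groth.Agent.S0846

/-!
# Resolutions of coherent sheaves on projective space by sums of twists
-/

set_option autoImplicit false
set_option linter.unusedSectionVars false

universe u

open CategoryTheory CategoryTheory.Limits AlgebraicGeometry TopologicalSpace Opposite TopCat

namespace K429.TwFinal

open Groth.Agent Groth.Agent.FormalB.GrTildeSect Groth.Agent.FormalB.GradedQuot Groth.Agent.FormalB.TildeOfPres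
open K429.TwSeq K429.TwRes K429.TwFam K429.TwAlg

variable {k : Type u} [Field k] {n : ℕ}

theorem isQCoh_E {r : ℕ} (e : Fin r → ℕ) :
    SheafOfModules.IsQuasicoherent (R := (Proj (CohB1.polyGrading n k)).ringCatSheaf) (E (CohB1.polyGrading n k) e) := by
  haveI : IsNoetherian (CohB1.ProjSpace n k) := Sga5.ProjReg.isNoetherian_projSpace n k
  haveI : IsLocallyNoetherian (Proj (CohB1.polyGrading n k)) :=
    (inferInstance : IsLocallyNoetherian (CohB1.ProjSpace n k))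
  exact (CycB.CohProp.isCoh_finite_coproduct (X := Proj (CohB1.polyGrading n k))
    (fun j : Fin r => Twist.twist (CohB1.polyGrading n k) (-(e j : ℤ)))
    (fun j => Ega3B.TwistCoh.isCoh_twist (CohB1.polyGrading n k) _)).1

/-- the generic point of projective space -/
theorem exists_point : ∃ (x : ProjectiveSpectrum (CohB1.polyGrading n k)) (f₀ : MvPolynomial (Fin (n + 1)) k),
    f₀ ∈ CohB1.polyGrading n k 1 ∧ f₀ ∉ x.asHomogeneousIdeal := by
  have h0 : (MvPolynomial.X 0 : MvPolynomial (Fin (n + 1)) k) ∈ CohB1.polyGrading n k 1 := by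
    rw [MvPolynomial.mem_homogeneousSubmodule]
    exact MvPolynomial.isHomogeneous_X _ _
  have h1 : (MvPolynomial.X 0 : MvPolynomial (Fin (n + 1)) k) ∉ (⊥ : HomogeneousIdeal (CohB1.polyGrading n k)) := by
    intro h
    exact MvPolynomial.X_ne_zero (0 : Fin (n + 1)) ((Submodule.mem_bot _).mp h)
  exact ⟨⟨⊥, by
    change (⊥ : Ideal (MvPolynomial (Fin (n + 1)) k)).IsPrime
    exact Ideal.isPrime_bot, fun hle => h1 (hle (HomogeneousIdeal.mem_irrelevant_of_mem _ one_pos h0))⟩, _, h0, h1⟩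

/-- reindexing a locally generating family -/
theorem exists_family_fin (F : (Proj (CohB1.polyGrading n k)).Modules) (hF : Coh.IsCoh F) :
    ∃ (r : ℕ) (e : Fin r → ℕ) (ψ : ∀ j, Twist.twist (CohB1.polyGrading n k) (-(e j : ℤ)) ⟶ F),
      ∀ (U : (Proj (CohB1.polyGrading n k)).Opens) (y : Γ(F, U)), ∀ x ∈ U, ∃ (V : (Proj (CohB1.polyGrading n k)).Opens)
        (h : V ≤ U) (t : ∀ j, Γ(Twist.twist (CohB1.polyGrading n k) (-(e j : ℤ)), V)), x ∈ V ∧
          FormalB.GlueHom.res F h y = ∑ j, (ψ j).app V (t j) := by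
  obtain ⟨r₀, d₀, φ₀, hφ₀⟩ := S0846.result (CohB1.polyGrading n k) F hF
  obtain ⟨J, hJ, e, ψ, hLS⟩ := exists_family d₀ φ₀ hφ₀
  refine ⟨Fintype.card J, fun i => e ((Fintype.equivFin J).symm i), fun i => ψ ((Fintype.equivFin J).symm i),
    fun U y x hx => ?_⟩
  obtain ⟨V, hVU, t, hxV, ht⟩ := hLS U y x hx
  refine ⟨V, hVU, fun i => t ((Fintype.equivFin J).symm i), hxV, ?_⟩
  rw [ht]
  exact ((Fintype.equivFin J).symm.sum_comp fun j => (ψ j).app V (t j)).symm

theorem exists_resolution (F : (Proj (CohB1.polyGrading n k)).Modules) (hF : Coh.IsCoh F) :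
    ∃ (rk : ℕ → ℕ) (e' : ∀ i, Fin (rk i) → ℕ) (d : ∀ i, E (CohB1.polyGrading n k) (e' (i + 1)) ⟶ E (CohB1.polyGrading n k) (e' i))
      (π : E (CohB1.polyGrading n k) (e' 0) ⟶ F) (hd : ∀ i, d (i + 1) ≫ d i = 0) (hπ : d 0 ≫ π = 0),
      (∀ i, (ShortComplex.mk (d (i + 1)) (d i) (hd i)).Exact) ∧ (ShortComplex.mk (d 0) π hπ).Exact ∧ Epi π ∧
      ∀ i, n + 1 < i → rk i = 0 := by
  obtain ⟨r, e, ψ, hLS⟩ := exists_family_fin F hF
  obtain ⟨m, f, c, hc, hf, hcov⟩ := FormalB.ProjCover.exists_cover (CohB1.polyGrading n k)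
  obtain ⟨rk, e', V, B, hV, hB, hgen, hVB, hBB, hlen⟩ := exists_data e (ker e ψ) (fun v hv N => comp_mem_ker e ψ hv N)
  obtain ⟨x, f₀, hf₀, hx⟩ := exists_point (k := k) (n := n)
  have hker0 : ker (e' 0) (comb e (e' 0) ψ V hV) = Submodule.span _ (Set.range (B 0)) := by
    rw [ker_comb, hVB]
  have hkeri : ∀ i, ker (e' (i + 1)) (comb (e' i) (e' (i + 1)) (inj (e' i)) (B i) (hB i)) =
      Submodule.span _ (Set.range (B (i + 1))) := by
    intro i
    rw [ker_comb, ker_inj (e' i) x hf₀ hx, ← hBB i]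
    rfl
  have hd : ∀ i, β (e' (i + 1)) (e' (i + 1 + 1)) (B (i + 1)) (hB (i + 1)) ≫ β (e' i) (e' (i + 1)) (B i) (hB i) = 0 :=
    fun i => β_desc_eq_zero _ _ _ _ _ fun l => by
      rw [hkeri i]
      exact Submodule.subset_span ⟨l, rfl⟩
  have hπ : β (e' 0) (e' (0 + 1)) (B 0) (hB 0) ≫ Sigma.desc (comb e (e' 0) ψ V hV) = 0 :=
    β_desc_eq_zero _ _ _ _ _ fun l => by
      rw [hker0]
      exact Submodule.subset_span ⟨l, rfl⟩
  refine ⟨rk, e', fun i => β (e' i) (e' (i + 1)) (B i) (hB i), Sigma.desc (comb e (e' 0) ψ V hV), hd, hπ,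
    fun i => ?_, ?_, ?_, hlen⟩
  · exact exact_β _ _ _ _ _ hc hf hcov (isQCoh_E (e' i)) (hkeri i) (hd i)
  · exact exact_β _ _ _ _ _ hc hf hcov hF.1 hker0 hπ
  · exact epi_desc e ψ hLS (e' 0) V hV hgen

end K429.TwFinal
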