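import Groth.Agent.CalgC.RegSmooth
import Mathlib.RingTheory.Smooth.Locus
import Mathlib.RingTheory.Smooth.StandardSmoothOfFree
import Mathlib.RingTheory.Localization.BaseChange

/-!
# The algebra of Bertini's theorem in characteristic zero

* `exists_formallySmooth_away`: a finite type algebra `B` over a noetherian domain `P` of
  characteristic zero whose localizations at the primes over `0` are regular becomes smooth after
  inverting a nonzero `p ∈ P`.
* `exists_smooth_hyperplane`: if `a_0, …, a_m` generate the unit ideal of the smooth `k`-algebra `A`,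
  `A ⧸ (Σ c_i a_i)` is smooth over `k` for all `c` outside a hypersurface.
-/

set_option autoImplicit false
universe u

open TensorProduct

namespace K429.BertiniAlg

/-- generic smoothness on the target in characteristic zero -/
theorem isSmoothAt_of_comap_eq_bot {P B : Type u} [CommRing P] [IsDomain P] [CharZero P] [CommRing B]
    [Algebra P B] [Algebra.FiniteType P B] (q : Ideal B) [q.IsPrime] (hq : q.comap (algebraMap P B) = ⊥)
    (hr : IsRegularLocalRing (Localization.AtPrime q)) : Algebra.IsSmoothAt P q := by
  let K := FractionRing P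
  haveI : CharZero K := charZero_of_injective_algebraMap (IsFractionRing.injective P K)
  let M := Algebra.algebraMapSubmonoid B (nonZeroDivisors P)
  letI : Algebra B (K ⊗[P] B) := Algebra.TensorProduct.rightAlgebra
  haveI hloc : IsLocalization M (K ⊗[P] B) := inferInstance
  let Q : Ideal (K ⊗[P] B) := q.map (algebraMap B (K ⊗[P] B))
  have hdisj : Disjoint (M : Set B) (q : Set B) := by
    rw [Set.disjoint_left]
    rintro _ ⟨x, hx, rfl⟩ h
    have h1 : x ∈ q.comap (algebraMap P B) := h
    rw [hq, Ideal.mem_bot] at h1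
    exact (nonZeroDivisors.ne_zero hx) h1
  haveI hQ : Q.IsPrime := IsLocalization.isPrime_of_isPrime_disjoint M _ q inferInstance hdisj
  have hcomap : Q.comap (algebraMap B (K ⊗[P] B)) = q :=
    IsLocalization.under_map_of_isPrime_disjoint M _ inferInstance hdisj
  haveI h1 : IsLocalization.AtPrime (Localization.AtPrime Q) q := by
    have := IsLocalization.isLocalization_isLocalization_atPrime_isLocalization M (Localization.AtPrime Q) Q
    simpa only [hcomap] using this
  let e : Localization.AtPrime q ≃ₐ[B] Localization.AtPrime Q := IsLocalization.algEquiv q.primeCompl _ _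
  have hr' : IsRegularLocalRing (Localization.AtPrime Q) := IsRegularLocalRing.of_ringEquiv e.toRingEquiv
  have h2 : Algebra.FormallySmooth K (Localization.AtPrime Q) :=
    (Groth.Agent.CalgC.RegSmooth.isSmoothAt_iff_isRegularLocalRing_of_perfectField (k := K) Q).mpr hr'
  haveI h3 : Algebra.FormallySmooth P K := Algebra.FormallySmooth.of_isLocalization (nonZeroDivisors P)
  haveI : IsScalarTower P K (Localization.AtPrime Q) := inferInstance
  have h4 : Algebra.FormallySmooth P (Localization.AtPrime Q) := Algebra.FormallySmooth.comp P K _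
  haveI : IsScalarTower P B (Localization.AtPrime Q) := by
    refine IsScalarTower.of_algebraMap_eq fun x => ?_
    rw [IsScalarTower.algebraMap_apply B (K ⊗[P] B) (Localization.AtPrime Q), 
      IsScalarTower.algebraMap_apply P (K ⊗[P] B) (Localization.AtPrime Q)]
    congr 1
    exact (Algebra.TensorProduct.algebraMap_apply' (A := K) (B := B) x)
  exact (Algebra.FormallySmooth.iff_of_equiv (e.restrictScalars P)).mpr h4

/-- generic smoothness on the target in characteristic zero -/
theorem exists_formallySmooth_away {P B : Type u} [CommRing P] [IsDomain P] [CharZero P] [IsNoetherianRing P] [CommRing B]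
    [Algebra P B] [Algebra.FiniteType P B]
    (hr : ∀ (q : Ideal B) [q.IsPrime], q.comap (algebraMap P B) = ⊥ → IsRegularLocalRing (Localization.AtPrime q)) :
    ∃ p : P, p ≠ 0 ∧ Algebra.FormallySmooth P (Localization.Away (algebraMap P B p)) := by
  haveI : Algebra.FinitePresentation P B := Algebra.FinitePresentation.of_finiteType.mp inferInstance
  have hopen : IsOpen (Algebra.smoothLocus P B) := Algebra.isOpen_smoothLocus
  obtain ⟨J, hJ⟩ := (PrimeSpectrum.isClosed_iff_zeroLocus_ideal _).mp hopen.isClosed_compl
  -- `J` meets `P \ 0`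
  have key : ∃ p : P, p ≠ 0 ∧ algebraMap P B p ∈ J := by
    by_contra hcon
    push Not at hcon
    let M := Algebra.algebraMapSubmonoid B (nonZeroDivisors P)
    have hdisj : Disjoint (J : Set B) (M : Set B) := by
      rw [Set.disjoint_right]
      rintro _ ⟨x, hx, rfl⟩ h
      exact hcon x (nonZeroDivisors.ne_zero hx) h
    obtain ⟨q, hq, hJq, hqM⟩ := Ideal.exists_le_prime_disjoint J M hdisj
    have h1 : q.comap (algebraMap P B) = ⊥ := by
      rw [eq_bot_iff]
      intro x hx
      by_contra h0
      exact Set.disjoint_left.mp hqM hx ⟨x, mem_nonZeroDivisors_of_ne_zero h0, rfl⟩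
    have h2 := isSmoothAt_of_comap_eq_bot q h1 (hr q h1)
    have h3 : (⟨q, hq⟩ : PrimeSpectrum B) ∈ (Algebra.smoothLocus P B)ᶜ := by
      rw [hJ]
      exact hJq
    exact h3 h2
  obtain ⟨p, hp0, hp⟩ := key
  refine ⟨p, hp0, ?_⟩
  rw [← Algebra.basicOpen_subset_smoothLocus_iff]
  intro x hx
  by_contra hcon
  have h3 : x ∈ (Algebra.smoothLocus P B)ᶜ := hcon
  rw [hJ] at h3
  exact hx (h3 hp)

/-- If `a_0, …, a_m` generate the unit ideal, the universal hyperplane `A[c] ⧸ (Σ a_i c_i)` is formally smooth over `A`. -/
theorem formallySmooth_universal {A : Type u} [CommRing A] {ι : Type} [Fintype ι] (a b : ι → A) (hab : ∑ i, b i * a i = 1) :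
    Algebra.FormallySmooth A (MvPolynomial ι A ⧸ Ideal.span {∑ i, MvPolynomial.C (a i) * MvPolynomial.X (R := A) i}) := by
  rw [Algebra.FormallySmooth.iff_comp_surjective]
  intro D _ _ I hI g
  let f : MvPolynomial ι A := ∑ i, MvPolynomial.C (a i) * MvPolynomial.X (R := A) i
  have hs := Ideal.Quotient.mk_surjective (I := I)
  choose y hy using fun i : ι => hs (g (Ideal.Quotient.mk _ (MvPolynomial.X i)))
  let ε : D := ∑ i, algebraMap A D (a i) * y i
  have hε : Ideal.Quotient.mk I ε = 0 := by
    have h0 : g (Ideal.Quotient.mk _ f) = 0 := by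
      rw [Ideal.Quotient.eq_zero_iff_mem.mpr (Ideal.mem_span_singleton_self f), map_zero]
    rw [← h0]
    simp only [ε, f, map_sum, map_mul, hy]
    refine Finset.sum_congr rfl fun i _ => ?_
    congr 1
    exact (g.commutes (a i)).symm
  let z : ι → D := fun i => y i - algebraMap A D (b i) * ε
  have hz : ∑ i, algebraMap A D (a i) * z i = 0 := by
    have h1 : ∑ i, algebraMap A D (a i) * z i = ε - (∑ i, algebraMap A D (b i) * algebraMap A D (a i)) * ε := by
      simp only [z, mul_sub, Finset.sum_sub_distrib, Finset.sum_mul]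
      congr 1
      refine Finset.sum_congr rfl fun i _ => ?_
      ring
    rw [h1]
    have h2 : ∑ i, algebraMap A D (b i) * algebraMap A D (a i) = 1 := by
      rw [← map_one (algebraMap A D), ← hab, map_sum]
      simp
    rw [h2, one_mul, sub_self]
  let φ : MvPolynomial ι A →ₐ[A] D := MvPolynomial.aeval z
  have hφ : ∀ x ∈ Ideal.span {f}, φ x = 0 := by
    intro x hx
    rw [Ideal.mem_span_singleton'] at hx
    obtain ⟨w, rfl⟩ := hx
    rw [map_mul]
    have : φ f = 0 := by
      simp only [φ, f, map_sum, map_mul, MvPolynomial.aeval_C, MvPolynomial.aeval_X]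
      exact hz
    rw [this, mul_zero]
  refine ⟨Ideal.Quotient.liftₐ _ φ hφ, ?_⟩
  apply Ideal.Quotient.algHom_ext
  ext i
  change Ideal.Quotient.mk I (φ (MvPolynomial.X i)) = g (Ideal.Quotient.mk _ (MvPolynomial.X i))
  simp only [φ, MvPolynomial.aeval_X, z]
  rw [map_sub, map_mul, hε, mul_zero, sub_zero, hy]

/-- **Bertini, algebra form** -/
theorem exists_smooth_hyperplane {k A : Type u} [Field k] [CharZero k] [CommRing A] [Algebra k A] [Algebra.Smooth k A]
    {ι : Type} [Fintype ι] (a b : ι → A) (hab : ∑ i, b i * a i = 1) :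
    ∃ p : MvPolynomial ι k, p ≠ 0 ∧ ∀ c : ι → k, MvPolynomial.eval c p ≠ 0 →
      Algebra.Smooth k (A ⧸ Ideal.span {∑ i, algebraMap k A (c i) * a i}) := by
  classical
  let P := MvPolynomial ι k
  let f : MvPolynomial ι A := ∑ i, MvPolynomial.C (a i) * MvPolynomial.X (R := A) i
  let B := MvPolynomial ι A ⧸ Ideal.span {f}
  haveI : Algebra.FormallySmooth A B := formallySmooth_universal a b hab
  haveI : Algebra.FormallySmooth k B := Algebra.FormallySmooth.comp k A B
  haveI : Algebra.FiniteType A B := Algebra.FiniteType.of_surjective (Ideal.Quotient.mkₐ A (Ideal.span {f})) (Ideal.Quotient.mk_surjective)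
  haveI : Algebra.FiniteType k B := Algebra.FiniteType.trans (R := k) (S := A) (A := B) inferInstance inferInstance
  let θ : P →+* B := (Ideal.Quotient.mk (Ideal.span {f})).comp (MvPolynomial.map (algebraMap k A))
  have hθC : ∀ r : k, θ (MvPolynomial.C r) = Ideal.Quotient.mk (Ideal.span {f}) (MvPolynomial.C (algebraMap k A r)) :=
    fun r => congrArg (Ideal.Quotient.mk (Ideal.span {f})) (MvPolynomial.map_C _ _)
  have hθX : ∀ i : ι, θ (MvPolynomial.X i) = Ideal.Quotient.mk (Ideal.span {f}) (MvPolynomial.X i) :=
    fun i => congrArg (Ideal.Quotient.mk (Ideal.span {f})) (MvPolynomial.map_X _ _)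
  letI : Algebra P B := θ.toAlgebra
  haveI : IsScalarTower k P B := by
    refine IsScalarTower.of_algebraMap_eq fun x => ?_
    change algebraMap k B x = θ (MvPolynomial.C x)
    rw [hθC]
    rfl
  haveI : Algebra.FiniteType P B := Algebra.FiniteType.of_restrictScalars_finiteType k P B
  haveI : CharZero P := charZero_of_injective_algebraMap (MvPolynomial.C_injective ι k)
  obtain ⟨p, hp0, hp⟩ := exists_formallySmooth_away (P := P) (B := B) (fun q hq _ => by
    haveI : Algebra.FormallySmooth B (Localization.AtPrime q) := Algebra.FormallySmooth.of_isLocalization q.primeCompl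
    haveI : Algebra.IsSmoothAt k q := Algebra.FormallySmooth.comp k B _
    exact Groth.Agent.CalgC.RegSmooth.isRegularLocalRing_of_isSmoothAt (k := k) q)
  refine ⟨p, hp0, fun c hc => ?_⟩
  let fc : A := ∑ i, algebraMap k A (c i) * a i
  let C := A ⧸ Ideal.span {fc}
  haveI : IsNoetherianRing A := Algebra.FiniteType.isNoetherianRing k A
  haveI hfp : Algebra.FinitePresentation k C := by
    haveI : Algebra.FiniteType k C := Algebra.FiniteType.of_surjective (Ideal.Quotient.mkₐ k (Ideal.span {fc})) (Ideal.Quotient.mk_surjective)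
    exact Algebra.FinitePresentation.of_finiteType.mp inferInstance
  suffices h : Algebra.FormallySmooth k C from ⟨h, hfp⟩
  rw [Algebra.FormallySmooth.iff_comp_surjective]
  intro D _ _ I hI g
  letI : Algebra P D := ((algebraMap k D).comp (MvPolynomial.eval c)).toAlgebra
  -- `B → C`
  let β0 : MvPolynomial ι A →+* C := MvPolynomial.eval₂Hom (Ideal.Quotient.mk _) (fun i => algebraMap k C (c i))
  have hβ0 : β0 f = 0 := by
    have h1 : β0 f = Ideal.Quotient.mk (Ideal.span {fc}) fc := by
      simp only [β0, f, fc, map_sum, map_mul, MvPolynomial.coe_eval₂Hom, MvPolynomial.eval₂_C, MvPolynomial.eval₂_X]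
      refine Finset.sum_congr rfl fun i _ => ?_
      rw [mul_comm]
      rfl
    rw [h1]
    exact Ideal.Quotient.eq_zero_iff_mem.mpr (Ideal.mem_span_singleton_self fc)
  let β : B →+* C := Ideal.Quotient.lift _ β0 (by
    intro x hx
    rw [Ideal.mem_span_singleton'] at hx
    obtain ⟨w, rfl⟩ := hx
    rw [map_mul, hβ0, mul_zero])
  have hβm : ∀ x, β (Ideal.Quotient.mk (Ideal.span {f}) x) = β0 x := fun x => Ideal.Quotient.lift_mk _ _ _
  have hβC : ∀ x : A, β (Ideal.Quotient.mk (Ideal.span {f}) (MvPolynomial.C x)) = Ideal.Quotient.mk (Ideal.span {fc}) x := fun x =>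
    (hβm _).trans (MvPolynomial.eval₂Hom_C _ _ _)
  have hβX : ∀ i : ι, β (Ideal.Quotient.mk (Ideal.span {f}) (MvPolynomial.X i)) = algebraMap k C (c i) := fun i =>
    (hβm _).trans (MvPolynomial.eval₂Hom_X' _ _ _)
  have hβθ : ∀ x : P, β (θ x) = algebraMap k C (MvPolynomial.eval c x) := by
    intro x
    have : (β.comp θ) = (algebraMap k C).comp (MvPolynomial.eval c) := by
      apply MvPolynomial.ringHom_ext
      · intro r
        rw [RingHom.comp_apply, hθC, hβC, RingHom.comp_apply, MvPolynomial.eval_C]
        rfl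
      · intro i
        rw [RingHom.comp_apply, hθX, hβX, RingHom.comp_apply, MvPolynomial.eval_X]
    exact RingHom.congr_fun this x
  have hunit : IsUnit (((g : C →+* D ⧸ I).comp β) (algebraMap P B p)) := by
    have : ((g : C →+* D ⧸ I).comp β) (algebraMap P B p) = algebraMap k (D ⧸ I) (MvPolynomial.eval c p) := by
      change g (β (θ p)) = _
      rw [hβθ, AlgHom.commutes]
    rw [this]
    exact (IsUnit.mk0 _ hc).map _
  let h0' : Localization.Away (algebraMap P B p) →+* D ⧸ I := IsLocalization.Away.lift (algebraMap P B p) hunit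
  have hh0' : ∀ x : B, h0' (algebraMap B _ x) = g (β x) := fun x => IsLocalization.Away.lift_eq _ hunit x
  let h0 : Localization.Away (algebraMap P B p) →ₐ[P] D ⧸ I :=
    { h0' with
      commutes' := by
        intro x
        change h0' (algebraMap P _ x) = _
        rw [IsScalarTower.algebraMap_apply P B (Localization.Away (algebraMap P B p)), hh0']
        change g (β (θ x)) = Ideal.Quotient.mk I (algebraMap k D (MvPolynomial.eval c x))
        rw [hβθ, AlgHom.commutes]
        rfl }
  haveI := hp
  obtain ⟨h, hh⟩ := Algebra.FormallySmooth.comp_surjective P (Localization.Away (algebraMap P B p)) I hI h0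
  have hh' : ∀ x : B, Ideal.Quotient.mk I (h (algebraMap B _ x)) = g (β x) := by
    intro x
    rw [← hh0']
    exact DFunLike.congr_fun hh _
  have hcomm : ∀ x : P, h (algebraMap B _ (θ x)) = algebraMap k D (MvPolynomial.eval c x) := by
    intro x
    have := h.commutes x
    rw [IsScalarTower.algebraMap_apply P B (Localization.Away (algebraMap P B p))] at this
    exact this
  let φ : A →ₐ[k] D :=
    { (h : Localization.Away (algebraMap P B p) →+* D).comp ((algebraMap B (Localization.Away (algebraMap P B p))).comp
        ((Ideal.Quotient.mk (Ideal.span {f})).comp MvPolynomial.C)) with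
      commutes' := by
        intro r
        have h2 := hcomm (MvPolynomial.C r)
        rw [hθC, MvPolynomial.eval_C] at h2
        exact h2 }
  have hφ : ∀ x : A, φ x = h (algebraMap B _ (Ideal.Quotient.mk (Ideal.span {f}) (MvPolynomial.C x))) := fun x => rfl
  have hφ0 : φ fc = 0 := by
    have h1 : h (algebraMap B _ (Ideal.Quotient.mk (Ideal.span {f}) f)) = 0 := by
      rw [Ideal.Quotient.eq_zero_iff_mem.mpr (Ideal.mem_span_singleton_self f), map_zero, map_zero]
    have h3 : ∀ i, h (algebraMap B _ (Ideal.Quotient.mk (Ideal.span {f}) (MvPolynomial.X i))) = algebraMap k D (c i) := by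
      intro i
      have h2 := hcomm (MvPolynomial.X i)
      rw [hθX, MvPolynomial.eval_X] at h2
      exact h2
    rw [← h1]
    change φ (∑ i, algebraMap k A (c i) * a i) = h (algebraMap B _ (Ideal.Quotient.mk (Ideal.span {f}) (∑ i, MvPolynomial.C (a i) * MvPolynomial.X (R := A) i)))
    rw [map_sum, map_sum, map_sum, map_sum]
    refine Finset.sum_congr rfl fun i _ => ?_
    rw [map_mul, map_mul, map_mul, map_mul, h3, ← hφ, AlgHom.commutes, mul_comm]
  refine ⟨Ideal.Quotient.liftₐ _ φ ?_, ?_⟩
  · intro x hx
    rw [Ideal.mem_span_singleton'] at hx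
    obtain ⟨w, rfl⟩ := hx
    rw [map_mul, hφ0, mul_zero]
  · apply Ideal.Quotient.algHom_ext
    ext x
    change Ideal.Quotient.mk I (φ x) = g (Ideal.Quotient.mk _ x)
    rw [hφ, hh', hβC]

end K429.BertiniAlg
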