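import Mathlib

/-!
# Forms of degree `j` surject onto a finite algebra killed by a product of `j + 1` maximal ideals

* `exists_mem_pow`: `B` a `k`-algebra generated by a subspace `V ∋ 1`, `l` a list of proper ideals with
  residue ring `k`; then `B = V ^ (l.length - 1) + l.prod`.
* `exists_form`: the form used for closed subschemes of projective space.
-/

set_option autoImplicit false

namespace K429.FinRegAlg

section Alg

variable {k B : Type*} [Field k] [CommRing B] [Algebra k B] (V : Submodule k B)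

theorem exists_sub_mem_span (h1 : (1 : B) ∈ V) (hV : Algebra.adjoin k (V : Set B) = ⊤) (M : Ideal B)
    (hM : ∀ b : B, ∃ c : k, b - algebraMap k B c ∈ M) (b : B) :
    ∃ c : k, b - algebraMap k B c ∈ Ideal.span {x : B | x ∈ M ∧ x ∈ V} := by
  have hb : b ∈ Algebra.adjoin k (V : Set B) := hV ▸ Algebra.mem_top
  induction hb using Algebra.adjoin_induction with
  | mem x hx =>
    obtain ⟨c, hc⟩ := hM x
    refine ⟨c, Ideal.subset_span ⟨hc, V.sub_mem hx ?_⟩⟩
    rw [Algebra.algebraMap_eq_smul_one]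
    exact V.smul_mem c h1
  | algebraMap r => exact ⟨r, by rw [sub_self]; exact zero_mem _⟩
  | add x y _ _ hx hy =>
    obtain ⟨c, hc⟩ := hx
    obtain ⟨d, hd⟩ := hy
    refine ⟨c + d, ?_⟩
    have : x + y - algebraMap k B (c + d) = (x - algebraMap k B c) + (y - algebraMap k B d) := by rw [map_add]; ring
    rw [this]
    exact add_mem hc hd
  | mul x y _ _ hx hy =>
    obtain ⟨c, hc⟩ := hx
    obtain ⟨d, hd⟩ := hy
    refine ⟨c * d, ?_⟩
    have : x * y - algebraMap k B (c * d) = y * (x - algebraMap k B c) + algebraMap k B c * (y - algebraMap k B d) := by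
      rw [map_mul]; ring
    rw [this]
    exact add_mem (Ideal.mul_mem_left _ _ hc) (Ideal.mul_mem_left _ _ hd)

theorem eq_span (h1 : (1 : B) ∈ V) (hV : Algebra.adjoin k (V : Set B) = ⊤) (M : Ideal B) (hM0 : M ≠ ⊤)
    (hM : ∀ b : B, ∃ c : k, b - algebraMap k B c ∈ M) : M = Ideal.span {x : B | x ∈ M ∧ x ∈ V} := by
  apply le_antisymm
  · intro b hb
    obtain ⟨c, hc⟩ := exists_sub_mem_span V h1 hV M hM b
    have hle : Ideal.span {x : B | x ∈ M ∧ x ∈ V} ≤ M := Ideal.span_le.mpr fun x hx => hx.1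
    have hcM : algebraMap k B c ∈ M := by
      have := M.sub_mem hb (hle hc)
      rwa [sub_sub_cancel] at this
    have hc0 : c = 0 := by
      by_contra h
      exact hM0 (Ideal.eq_top_of_isUnit_mem M hcM ((IsUnit.mk0 c h).map (algebraMap k B)))
    rw [hc0, map_zero, sub_zero] at hc
    exact hc
  · exact Ideal.span_le.mpr fun x hx => hx.1

theorem prod_eq_span (h1 : (1 : B) ∈ V) (hV : Algebra.adjoin k (V : Set B) = ⊤) (l : List (Ideal B))
    (hl0 : ∀ M ∈ l, M ≠ ⊤) (hl : ∀ M ∈ l, ∀ b : B, ∃ c : k, b - algebraMap k B c ∈ M) :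
    l.prod ≤ Ideal.span {x : B | x ∈ l.prod ∧ x ∈ V ^ l.length} := by
  induction l with
  | nil =>
    have h : (1 : B) ∈ Ideal.span {x : B | x ∈ ([] : List (Ideal B)).prod ∧ x ∈ V ^ ([] : List (Ideal B)).length} := by
      refine Ideal.subset_span ⟨?_, ?_⟩
      · rw [List.prod_nil, Ideal.one_eq_top]
        exact Submodule.mem_top
      · rw [List.length_nil, pow_zero]
        exact Submodule.one_le.mp le_rfl
    rw [(Ideal.eq_top_iff_one _).mpr h]
    exact le_top
  | cons M l ih =>
    have ih' := ih (fun N hN => hl0 N (List.mem_cons_of_mem _ hN)) (fun N hN => hl N (List.mem_cons_of_mem _ hN))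
    rw [List.prod_cons, List.length_cons]
    have hM := eq_span V h1 hV M (hl0 M List.mem_cons_self) (hl M List.mem_cons_self)
    calc M * l.prod ≤ Ideal.span {x : B | x ∈ M ∧ x ∈ V} * Ideal.span {x : B | x ∈ l.prod ∧ x ∈ V ^ l.length} :=
          Ideal.mul_mono hM.le ih'
      _ ≤ _ := by
          rw [Ideal.span_mul_span]
          refine Ideal.span_le.mpr ?_
          rintro _ ⟨x, hx, y, hy, rfl⟩
          refine Ideal.subset_span ⟨Ideal.mul_mem_mul hx.1 hy.1, ?_⟩
          rw [pow_succ']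
          exact Submodule.mul_mem_mul hx.2 hy.2

theorem exists_mem_pow (h1 : (1 : B) ∈ V) (hV : Algebra.adjoin k (V : Set B) = ⊤) (M : Ideal B) (l : List (Ideal B))
    (hl0 : ∀ N ∈ M :: l, N ≠ ⊤) (hl : ∀ N ∈ M :: l, ∀ b : B, ∃ c : k, b - algebraMap k B c ∈ N) (b : B) :
    ∃ v ∈ V ^ l.length, b - v ∈ M * l.prod := by
  induction l generalizing M with
  | nil =>
    obtain ⟨c, hc⟩ := hl M List.mem_cons_self b
    refine ⟨algebraMap k B c, ?_, ?_⟩
    · rw [List.length_nil, pow_zero]
      exact Submodule.algebraMap_mem c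
    · rw [List.prod_nil, mul_one]
      exact hc
  | cons N l ih =>
    obtain ⟨v, hv, hbv⟩ := ih N (fun N' hN' => hl0 N' (List.mem_cons_of_mem _ hN'))
      (fun N' hN' => hl N' (List.mem_cons_of_mem _ hN'))
    rw [← List.prod_cons] at hbv
    have hle : V ^ l.length ≤ V ^ (N :: l).length := by
      rw [List.length_cons, pow_succ]
      intro x hx
      rw [← mul_one x]
      exact Submodule.mul_mem_mul hx h1
    have hsub : ∀ a ∈ (N :: l).prod, ∃ w ∈ V ^ (N :: l).length, a - w ∈ M * (N :: l).prod := by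
      intro a ha
      have ha' := prod_eq_span V h1 hV (N :: l) (fun N' hN' => hl0 N' (List.mem_cons_of_mem _ hN'))
        (fun N' hN' => hl N' (List.mem_cons_of_mem _ hN')) ha
      induction ha' using Submodule.span_induction with
      | mem x hx => exact ⟨x, hx.2, by rw [sub_self]; exact zero_mem _⟩
      | zero => exact ⟨0, zero_mem _, by rw [sub_self]; exact zero_mem _⟩
      | add x y hx hy ihx ihy =>
        have hle' : Ideal.span {x : B | x ∈ (N :: l).prod ∧ x ∈ V ^ (N :: l).length} ≤ (N :: l).prod :=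
          Ideal.span_le.mpr fun x hx => hx.1
        obtain ⟨w, hw, hxw⟩ := ihx (hle' hx)
        obtain ⟨w', hw', hyw⟩ := ihy (hle' hy)
        exact ⟨w + w', add_mem hw hw', by rw [add_sub_add_comm]; exact add_mem hxw hyw⟩
      | smul r x hx ihx =>
        have hle' : Ideal.span {x : B | x ∈ (N :: l).prod ∧ x ∈ V ^ (N :: l).length} ≤ (N :: l).prod :=
          Ideal.span_le.mpr fun x hx => hx.1
        obtain ⟨w, hw, hxw⟩ := ihx (hle' hx)
        obtain ⟨c, hc⟩ := hl M List.mem_cons_self r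
        refine ⟨c • w, Submodule.smul_mem _ _ hw, ?_⟩
        have : r • x - c • w = (r - algebraMap k B c) * x + algebraMap k B c * (x - w) := by
          rw [Algebra.smul_def c w, smul_eq_mul]; ring
        rw [this]
        exact add_mem (Ideal.mul_mem_mul hc (hle' hx)) (Ideal.mul_mem_left _ _ hxw)
    obtain ⟨w, hw, hw'⟩ := hsub _ hbv
    exact ⟨v + w, add_mem (hle hv) hw, by rw [← sub_sub]; exact hw'⟩

end Alg

/-- If `Φ : k[x_0, …, x_N] → B` is surjective, maps a linear form to `1`, and a product of at most `j + 1` proper ideals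
with residue ring `k` vanishes in `B`, then every element of `B` is the image of a form of degree `j`. -/
theorem exists_form {k B : Type*} [Field k] [CommRing B] {N : ℕ} (Φ : MvPolynomial (Fin (N + 1)) k →+* B)
    (hΦ : Function.Surjective Φ) (f : MvPolynomial (Fin (N + 1)) k) (hf : f.IsHomogeneous 1) (hf1 : Φ f = 1)
    (l : List (Ideal B)) (hl0 : ∀ M ∈ l, M ≠ ⊤) (hl : ∀ M ∈ l, ∀ b : B, ∃ c : k, b - Φ (MvPolynomial.C c) ∈ M)
    (hprod : l.prod = ⊥) (j : ℕ) (hj : l.length ≤ j + 1) (b : B) :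
    ∃ Q : MvPolynomial (Fin (N + 1)) k, Q.IsHomogeneous j ∧ Φ Q = b := by
  letI : Algebra k B := (Φ.comp MvPolynomial.C).toAlgebra
  let Φ' : MvPolynomial (Fin (N + 1)) k →ₐ[k] B := { Φ with commutes' := fun _ => rfl }
  have hΦ' : ∀ x, Φ' x = Φ x := fun _ => rfl
  let V : Submodule k B := (MvPolynomial.homogeneousSubmodule (Fin (N + 1)) k 1).map Φ'.toLinearMap
  have h1 : (1 : B) ∈ V := ⟨f, hf, hf1⟩
  have hV : Algebra.adjoin k (V : Set B) = ⊤ := by
    rw [eq_top_iff]
    intro x hx
    clear hx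
    obtain ⟨p, rfl⟩ := hΦ x
    rw [← hΦ']
    induction p using MvPolynomial.induction_on with
    | C a =>
      have : Φ' (MvPolynomial.C a) = algebraMap k B a := rfl
      rw [this]
      exact Subalgebra.algebraMap_mem _ _
    | add p q hp hq => rw [map_add]; exact add_mem hp hq
    | mul_X p i hp =>
      rw [map_mul]
      exact mul_mem hp (Algebra.subset_adjoin ⟨MvPolynomial.X i, MvPolynomial.isHomogeneous_X k i, rfl⟩)
  have hpow : ∀ d : ℕ, V ^ d = (MvPolynomial.homogeneousSubmodule (Fin (N + 1)) k d).map Φ'.toLinearMap := by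
    intro d
    rw [← MvPolynomial.homogeneousSubmodule_one_pow, Submodule.map_pow]
  have hup : ∀ d e : ℕ, d ≤ e → ∀ x ∈ V ^ d, x ∈ V ^ e := by
    intro d e hde x hx
    obtain ⟨c, rfl⟩ := Nat.exists_eq_add_of_le hde
    rw [pow_add, ← mul_one x]
    refine Submodule.mul_mem_mul hx ?_
    have : (1 : B) ^ c ∈ V ^ c := Submodule.pow_mem_pow V h1 c
    rwa [one_pow] at this
  have hfin : b ∈ V ^ j := by
    rcases l with _ | ⟨M, l⟩
    · have h01 : (1 : B) ∈ (⊥ : Ideal B) := by rw [← hprod, List.prod_nil, Ideal.one_eq_top]; exact Submodule.mem_top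
      have hb0 : b = 0 := by rw [← mul_one b, (Submodule.mem_bot B).mp h01, mul_zero]
      rw [hb0]
      exact zero_mem _
    · obtain ⟨v, hv, hbv⟩ := exists_mem_pow V h1 hV M l hl0 hl b
      rw [← List.prod_cons, hprod, Submodule.mem_bot, sub_eq_zero] at hbv
      rw [hbv]
      exact hup _ _ (by rw [List.length_cons] at hj; omega) _ hv
  rw [hpow] at hfin
  obtain ⟨Q, hQ, hQb⟩ := hfin
  exact ⟨Q, hQ, hQb⟩

end K429.FinRegAlg
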