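import Groth.Agent.Variety.K429.FinRegAlg
import Groth.Agent.Variety.K429.LinEmb
import Groth.Agent.FormalB.TwistExt
import Groth.Agent.Ega3B.TwistCoh

/-!
# Finite closed subschemes of projective space: evaluation of forms
-/

set_option autoImplicit false
set_option linter.unusedSectionVars false

universe u

open CategoryTheory CategoryTheory.Limits AlgebraicGeometry TopologicalSpace Opposite TopCat

namespace K429.FinRegGeom

open Groth.Agent Groth.Agent.FormalB.GrTildeSect Groth.Agent.FormalB.GlueHom Groth.Agent.FormalB.TwistFrac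

/-- a linear form which vanishes at none of finitely many points -/
theorem exists_form_notMem {k : Type u} [Field k] [Infinite k] {N : ℕ} {ι : Type*} [Finite ι]
    (z : ι → ProjectiveSpectrum (CohB1.polyGrading N k)) :
    ∃ f ∈ CohB1.polyGrading N k 1, ∀ i, f ∉ (z i).asHomogeneousIdeal := by
  classical
  haveI := Fintype.ofFinite ι
  let W : ι → Submodule k (CohB1.polyGrading N k 1) := fun i =>
    ((z i).asHomogeneousIdeal.toIdeal.restrictScalars k).comap (CohB1.polyGrading N k 1).subtype
  have hW : ∀ i, W i ≠ ⊤ := by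
    intro i h
    obtain ⟨t, ht⟩ := K429.LinEmb.exists_X_notMem k (show CohB1.ProjSpace N k from z i)
    have h1 : (⟨MvPolynomial.X t, MvPolynomial.isHomogeneous_X k t⟩ : CohB1.polyGrading N k 1) ∈ W i := h ▸ Submodule.mem_top
    exact ht h1
  have h := Subspace.biUnion_ne_univ_of_top_notMem (k := k) (E := CohB1.polyGrading N k 1)
    (s := Finset.univ.image W) (by
      intro h
      obtain ⟨i, -, hi⟩ := Finset.mem_image.mp h
      exact hW i hi)
  rw [Ne, Set.eq_univ_iff_forall, not_forall] at h
  obtain ⟨f, hf⟩ := h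
  refine ⟨f.1, f.2, fun i hi => hf ?_⟩
  simp only [Set.mem_iUnion]
  exact ⟨W i, Finset.mem_image_of_mem _ (Finset.mem_univ i), hi⟩

/-! ### dehomogenization -/

theorem pow_mul_eval₂ {k B σ : Type*} [CommRing k] [CommRing B] (φ : k →+* B) (a : B) (t g : σ → B) (h : ∀ i, a * t i = g i)
    {d : ℕ} {Q : MvPolynomial σ k} (hQ : Q.IsHomogeneous d) :
    a ^ d * MvPolynomial.eval₂ φ t Q = MvPolynomial.eval₂ φ g Q := by
  classical
  rw [MvPolynomial.eval₂_eq, MvPolynomial.eval₂_eq, Finset.mul_sum]
  refine Finset.sum_congr rfl fun m hm => ?_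
  have h1 : ∑ i ∈ m.support, m i = d := by
    have := hQ (MvPolynomial.mem_support_iff.mp hm)
    rw [← this]
    simp [Finsupp.weight_apply, Finsupp.sum]
  rw [mul_left_comm, ← h1, ← Finset.prod_pow_eq_pow_sum, ← Finset.prod_mul_distrib]
  congr 1
  exact Finset.prod_congr rfl fun i _ => by rw [← mul_pow, h]

variable {k : Type u} [Field k] {N : ℕ}

/-- values of functions, as a ring homomorphism -/
noncomputable def ovalHom {U : (Proj (CohB1.polyGrading N k)).Opens} (x : U) :
    Γ(Proj (CohB1.polyGrading N k), U) →+* Twist.Loc (CohB1.polyGrading N k) x.1 where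
  toFun c := oval c x
  map_one' := HomogeneousLocalization.val_one
  map_mul' a b := HomogeneousLocalization.val_mul _ _
  map_zero' := HomogeneousLocalization.val_zero
  map_add' a b := HomogeneousLocalization.val_add _ _

theorem ovalHom_apply {U : (Proj (CohB1.polyGrading N k)).Opens} (x : U) (c : Γ(Proj (CohB1.polyGrading N k), U)) :
    ovalHom x c = oval c x := rfl

theorem oval_mul {U : (Proj (CohB1.polyGrading N k)).Opens} (x : U) (c d : Γ(Proj (CohB1.polyGrading N k), U)) :
    oval (c * d) x = oval c x * oval d x := map_mul (ovalHom x) c d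

theorem oval_add {U : (Proj (CohB1.polyGrading N k)).Opens} (x : U) (c d : Γ(Proj (CohB1.polyGrading N k), U)) :
    oval (c + d) x = oval c x + oval d x := map_add (ovalHom x) c d

theorem C_mem (c : k) : (MvPolynomial.C c : MvPolynomial (Fin (N + 1)) k) ∈ CohB1.polyGrading N k 0 :=
  MvPolynomial.isHomogeneous_C _ c

/-- constants -/
noncomputable def cst (U : (Proj (CohB1.polyGrading N k)).Opens) : k →+* Γ(Proj (CohB1.polyGrading N k), U) where
  toFun c := ofrac U (C_mem c) SetLike.GradedOne.one_mem (NV.one U)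
  map_one' := oval_ext fun x => by
    rw [oval_ofrac, MvPolynomial.C_1]
    exact Localization.mk_one.trans (map_one (ovalHom x)).symm
  map_mul' a b := oval_ext fun x => by
    rw [oval_mul, oval_ofrac, oval_ofrac, oval_ofrac, Localization.mk_mul, MvPolynomial.C_mul]
    congr 1
    exact Subtype.ext (mul_one _).symm
  map_zero' := oval_ext fun x => by
    rw [oval_ofrac]
    refine Eq.trans ?_ (map_zero (ovalHom x)).symm
    rw [MvPolynomial.C_0]
    exact Localization.mk_zero _
  map_add' a b := oval_ext fun x => by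
    rw [oval_add, oval_ofrac, oval_ofrac, oval_ofrac, Localization.add_mk_self, MvPolynomial.C_add]

/-- dehomogenization with respect to a linear form -/
noncomputable def deh (U : (Proj (CohB1.polyGrading N k)).Opens) {f : MvPolynomial (Fin (N + 1)) k}
    (hf : f ∈ CohB1.polyGrading N k 1) (hU : NV U f) :
    MvPolynomial (Fin (N + 1)) k →+* Γ(Proj (CohB1.polyGrading N k), U) :=
  MvPolynomial.eval₂Hom (cst U) fun i => ofrac U (MvPolynomial.isHomogeneous_X k i) hf hU

theorem deh_C (U : (Proj (CohB1.polyGrading N k)).Opens) {f : MvPolynomial (Fin (N + 1)) k}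
    (hf : f ∈ CohB1.polyGrading N k 1) (hU : NV U f) (c : k) : deh U hf hU (MvPolynomial.C c) = cst U c :=
  MvPolynomial.eval₂Hom_C _ _ _

theorem deh_of_mem (U : (Proj (CohB1.polyGrading N k)).Opens) {f : MvPolynomial (Fin (N + 1)) k}
    (hf : f ∈ CohB1.polyGrading N k 1) (hU : NV U f) {d : ℕ} {Q : MvPolynomial (Fin (N + 1)) k}
    (hQ : Q ∈ CohB1.polyGrading N k d) {g : MvPolynomial (Fin (N + 1)) k} (hg : g ∈ CohB1.polyGrading N k d)
    (hgf : g = f ^ d) (hgU : NV U g) :
    deh U hf hU Q = ofrac U hQ hg hgU := by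
  subst hgf
  refine oval_ext fun x => ?_
  rw [oval_ofrac]
  change ovalHom x (MvPolynomial.eval₂ (cst U) _ Q) = _
  rw [MvPolynomial.hom_eval₂]
  have h1 := pow_mul_eval₂ ((ovalHom x).comp (cst U)) (algebraMap (MvPolynomial (Fin (N + 1)) k) (Twist.Loc (CohB1.polyGrading N k) x.1) f)
    (fun i => ovalHom x (ofrac U (MvPolynomial.isHomogeneous_X k i) hf hU))
    (fun i => algebraMap (MvPolynomial (Fin (N + 1)) k) (Twist.Loc (CohB1.polyGrading N k) x.1) (MvPolynomial.X i)) (fun i => by
      rw [ovalHom_apply, oval_ofrac, ← Localization.mk_one_eq_algebraMap, ← Localization.mk_one_eq_algebraMap, Localization.mk_mul,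
        Localization.mk_eq_mk_iff, Localization.r_iff_exists]
      exact ⟨1, by simp⟩) hQ
  have h2 : MvPolynomial.eval₂ ((ovalHom x).comp (cst U))
      (fun i => algebraMap (MvPolynomial (Fin (N + 1)) k) (Twist.Loc (CohB1.polyGrading N k) x.1) (MvPolynomial.X i)) Q =
        algebraMap (MvPolynomial (Fin (N + 1)) k) (Twist.Loc (CohB1.polyGrading N k) x.1) Q := by
    have h3 : (ovalHom x).comp (cst U) = (algebraMap (MvPolynomial (Fin (N + 1)) k)
        (Twist.Loc (CohB1.polyGrading N k) x.1)).comp MvPolynomial.C := by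
      ext c
      rw [RingHom.comp_apply, ovalHom_apply]
      change oval (ofrac U (C_mem c) SetLike.GradedOne.one_mem (NV.one U)) x = _
      rw [oval_ofrac, RingHom.comp_apply, ← Localization.mk_one_eq_algebraMap]
      rfl
    rw [h3, ← MvPolynomial.hom_eval₂ Q MvPolynomial.C (algebraMap (MvPolynomial (Fin (N + 1)) k) (Twist.Loc (CohB1.polyGrading N k) x.1)) MvPolynomial.X,
      MvPolynomial.eval₂_eta]
  rw [h2] at h1
  have hu : IsUnit (algebraMap (MvPolynomial (Fin (N + 1)) k) (Twist.Loc (CohB1.polyGrading N k) x.1) f ^ d) := by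
    rw [← map_pow]
    exact IsLocalization.map_units (Twist.Loc (CohB1.polyGrading N k) x.1)
      (⟨f ^ d, hgU x.1 x.2⟩ : x.1.asHomogeneousIdeal.toIdeal.primeCompl)
  apply hu.mul_left_cancel
  refine h1.trans ?_
  rw [← map_pow, ← Localization.mk_one_eq_algebraMap, ← Localization.mk_one_eq_algebraMap, Localization.mk_mul,
    Localization.mk_eq_mk_iff, Localization.r_iff_exists]
  exact ⟨1, by simp⟩

end K429.FinRegGeom
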