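import Groth.Agent.Variety.K429.NilpConj
import Mathlib.LinearAlgebra.Matrix.MvPolynomial
import Mathlib.LinearAlgebra.Matrix.Charpoly.Basic
import Mathlib.LinearAlgebra.Matrix.NonsingularInverse
import Mathlib.RingTheory.Nullstellensatz
import Mathlib.RingTheory.Localization.Away.Basic
import Mathlib.RingTheory.Localization.Integral
import Mathlib.RingTheory.Polynomial.Basic

/-!
# The nilpotent cone: the radical of the ideal of the coefficients of the characteristic polynomial is prime
-/

set_option autoImplicit false

open Matrix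

namespace K429.NilpCone

universe u

variable (k : Type u) [Field k] (n : ℕ)

/-- the ideal of the lower coefficients of the characteristic polynomial of the generic matrix -/
noncomputable def I : Ideal (MvPolynomial (Fin n × Fin n) k) :=
  Ideal.span (Set.range (fun i : Fin n => (Matrix.charpoly (Matrix.mvPolynomialX (Fin n) (Fin n) k)).coeff (i : ℕ)))

abbrev S : Type u := MvPolynomial ((Fin n × Fin n) ⊕ (Fin n × Fin n)) k

noncomputable def G : Matrix (Fin n) (Fin n) (S k n) := Matrix.of fun i j => MvPolynomial.X (Sum.inl (i, j))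

noncomputable def U : Matrix (Fin n) (Fin n) (S k n) :=
  Matrix.of fun i j => if i < j then MvPolynomial.X (Sum.inr (i, j)) else 0

theorem det_G_ne_zero : (G k n).det ≠ 0 := by
  have h1 := Matrix.det_mvPolynomialX_ne_zero (Fin n) k
  have h2 : (G k n).det = MvPolynomial.rename Sum.inl (Matrix.det (Matrix.mvPolynomialX (Fin n) (Fin n) k)) := by
    have : G k n = (MvPolynomial.rename Sum.inl : MvPolynomial (Fin n × Fin n) k →ₐ[k] S k n).mapMatrix
        (Matrix.mvPolynomialX (Fin n) (Fin n) k) := by
      ext i j : 2
      simp [G, Matrix.mvPolynomialX_apply]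
    rw [this]
    exact (AlgHom.map_det (MvPolynomial.rename Sum.inl : MvPolynomial (Fin n × Fin n) k →ₐ[k] S k n) _).symm
  rw [h2]
  intro h
  exact h1 (MvPolynomial.rename_injective _ Sum.inl_injective (by rw [h, map_zero]))

abbrev D : Type u := Localization.Away (G k n).det

instance : IsDomain (D k n) :=
  IsLocalization.isDomain_localization (powers_le_nonZeroDivisors_of_noZeroDivisors (det_G_ne_zero k n))

noncomputable def G' : Matrix (Fin n) (Fin n) (D k n) := (G k n).map (algebraMap (S k n) (D k n))

noncomputable def U' : Matrix (Fin n) (Fin n) (D k n) := (U k n).map (algebraMap (S k n) (D k n))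

theorem isUnit_det_G' : IsUnit (G' k n).det := by
  have : (G' k n).det = algebraMap (S k n) (D k n) (G k n).det :=
    (RingHom.map_det (algebraMap (S k n) (D k n)) (G k n)).symm
  rw [this]
  exact IsLocalization.Away.algebraMap_isUnit _

/-- the comorphism of the conjugation map -/
noncomputable def φ : MvPolynomial (Fin n × Fin n) k →ₐ[k] D k n :=
  MvPolynomial.aeval (fun p => (G' k n * U' k n * (G' k n)⁻¹) p.1 p.2)

theorem charpoly_conj : (G' k n * U' k n * (G' k n)⁻¹).charpoly = Polynomial.X ^ n := by
  rw [Matrix.charpoly_mul_comm, ← mul_assoc, Matrix.nonsing_inv_mul _ (isUnit_det_G' k n), one_mul,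
    Matrix.charpoly_of_isUpperTriangular]
  · simp [U', U]
  · intro i j hij
    have : ¬ i < j := not_lt.mpr hij.le
    simp [U', U, this]

theorem I_le : I k n ≤ RingHom.ker (φ k n) := by
  rw [I, Ideal.span_le]
  rintro _ ⟨i, rfl⟩
  change φ k n _ = 0
  have h1 : (Matrix.mvPolynomialX (Fin n) (Fin n) k).map (φ k n) = G' k n * U' k n * (G' k n)⁻¹ := by
    ext i j
    simp [φ, Matrix.mvPolynomialX_apply]
  have h2 := Matrix.charpoly_map (Matrix.mvPolynomialX (Fin n) (Fin n) k) (φ k n).toRingHom
  have h3 : ((Matrix.mvPolynomialX (Fin n) (Fin n) k).map (φ k n).toRingHom) = G' k n * U' k n * (G' k n)⁻¹ := h1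
  rw [h3, charpoly_conj] at h2
  have h4 := congrArg (fun p => p.coeff (i : ℕ)) h2
  simp only [Polynomial.coeff_map, Polynomial.coeff_X_pow] at h4
  rw [if_neg (by have := i.2; omega)] at h4
  exact h4.symm

/-- evaluation at a conjugate of a strictly triangular matrix -/
theorem eval_eq_zero (g h T : Matrix (Fin n) (Fin n) k) (hgh : g * h = 1) (hT : ∀ i j, j ≤ i → T i j = 0)
    (f : MvPolynomial (Fin n × Fin n) k) (hf : φ k n f = 0) :
    MvPolynomial.aeval (fun p : Fin n × Fin n => (g * T * h) p.1 p.2) f = 0 := by
  let e0 : S k n →+* k := (MvPolynomial.aeval (fun s : (Fin n × Fin n) ⊕ (Fin n × Fin n) =>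
    Sum.elim (fun p => g p.1 p.2) (fun p => T p.1 p.2) s) : S k n →ₐ[k] k).toRingHom
  have hG : (G k n).map e0 = g := by
    ext i j
    simp [e0, G]
  have hU : (U k n).map e0 = T := by
    ext i j
    by_cases hij : i < j
    · simp [e0, U, hij]
    · simp [e0, U, hij, hT i j (not_lt.mp hij)]
  have hdet : IsUnit (e0 (G k n).det) := by
    rw [RingHom.map_det]
    change IsUnit (((G k n).map e0).det)
    rw [hG]
    exact (Matrix.isUnit_iff_isUnit_det _).mp (IsUnit.of_mul_eq_one _ hgh)
  let e : D k n →+* k := IsLocalization.Away.lift (G k n).det hdet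
  have he : ∀ s, e (algebraMap _ _ s) = e0 s := fun s => IsLocalization.Away.lift_eq _ hdet s
  have hG' : (G' k n).map e = g := by
    rw [← hG]; ext i j; simp [G', he]
  have hU' : (U' k n).map e = T := by
    rw [← hU]; ext i j; simp [U', he]
  have hinv : ((G' k n)⁻¹).map e = h := by
    have h1 : (G' k n).map e * ((G' k n)⁻¹).map e = 1 := by
      rw [← Matrix.map_mul, Matrix.mul_nonsing_inv _ (isUnit_det_G' k n)]
      exact Matrix.map_one _ (map_zero e) (map_one e)
    rw [hG'] at h1
    have h2 : h * g = 1 := mul_eq_one_comm.mp hgh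
    calc ((G' k n)⁻¹).map e = h * g * ((G' k n)⁻¹).map e := by rw [h2, one_mul]
      _ = h := by rw [mul_assoc, h1, mul_one]
  have hall : (G' k n * U' k n * (G' k n)⁻¹).map e = g * T * h := by
    rw [Matrix.map_mul, Matrix.map_mul, hG', hU', hinv]
  have halg : ∀ c : k, e (algebraMap k (D k n) c) = c := by
    intro c
    rw [IsScalarTower.algebraMap_apply k (S k n) (D k n), he]
    simp [e0]
  have key : (e : D k n →+* k).comp (φ k n).toRingHom =
      (MvPolynomial.aeval (fun p : Fin n × Fin n => (g * T * h) p.1 p.2) : MvPolynomial (Fin n × Fin n) k →ₐ[k] k).toRingHom := by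
    refine MvPolynomial.ringHom_ext (fun c => ?_) (fun p => ?_)
    · simp only [RingHom.comp_apply, AlgHom.toRingHom_eq_coe, RingHom.coe_coe, ← MvPolynomial.algebraMap_eq, AlgHom.commutes]
      exact halg c
    · simp only [RingHom.comp_apply, AlgHom.toRingHom_eq_coe, RingHom.coe_coe, φ, MvPolynomial.aeval_X]
      rw [← hall]
      rfl
  have := congrArg (fun r => r f) key
  simp only [RingHom.comp_apply, AlgHom.toRingHom_eq_coe, RingHom.coe_coe, hf, map_zero] at this
  exact this.symm

variable [IsAlgClosed k]

theorem radical_eq : (I k n).radical = RingHom.ker (φ k n) := by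
  refine le_antisymm ?_ ?_
  · rw [(RingHom.ker_isPrime (φ k n)).isRadical.radical_le_iff]
    exact I_le k n
  · rw [← MvPolynomial.vanishingIdeal_zeroLocus_eq_radical (K := k)]
    intro f hf
    rw [MvPolynomial.mem_vanishingIdeal_iff]
    intro x hx
    rw [MvPolynomial.mem_zeroLocus_iff] at hx
    let A : Matrix (Fin n) (Fin n) k := Matrix.of fun i j => x (i, j)
    have hA : A.charpoly = Polynomial.X ^ n := by
      have h1 : (Matrix.mvPolynomialX (Fin n) (Fin n) k).map (MvPolynomial.aeval x : _ →ₐ[k] k).toRingHom = A := by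
        ext i j
        simp [Matrix.mvPolynomialX_apply, A]
      have h2 := Matrix.charpoly_map (Matrix.mvPolynomialX (Fin n) (Fin n) k) (MvPolynomial.aeval x : _ →ₐ[k] k).toRingHom
      rw [h1] at h2
      have h3 : A.charpoly.natDegree = n := by simpa using A.charpoly_natDegree_eq_dim
      refine Polynomial.ext fun i => ?_
      rw [Polynomial.coeff_X_pow]
      by_cases hi : i = n
      · rw [if_pos hi, hi]
        have := A.charpoly_monic
        rw [Polynomial.Monic, Polynomial.leadingCoeff, h3] at this
        exact this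
      · rw [if_neg hi]
        rcases lt_or_gt_of_ne hi with hlt | hgt
        · rw [h2, Polynomial.coeff_map]
          exact hx _ (Ideal.subset_span ⟨⟨i, hlt⟩, rfl⟩)
        · exact Polynomial.coeff_eq_zero_of_natDegree_lt (by rw [h3]; exact hgt)
    have hnil : IsNilpotent A := by
      refine ⟨n, ?_⟩
      have := A.aeval_self_charpoly
      rw [hA] at this
      simpa using this
    obtain ⟨g, h, T, hgh, hT, hAeq⟩ := NilpConj.exists_conj A hnil
    have h5 := eval_eq_zero k n g h T hgh hT f hf
    rw [← hAeq] at h5
    exact h5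

theorem isPrime_radical : (I k n).radical.IsPrime := by
  rw [radical_eq]
  exact RingHom.ker_isPrime _

end K429.NilpCone
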