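import Mathlib.LinearAlgebra.Basis.VectorSpace
import Mathlib.LinearAlgebra.Basis.Fin
import Mathlib.LinearAlgebra.Matrix.ToLin
import Mathlib.LinearAlgebra.Matrix.Basis
import Mathlib.RingTheory.Nilpotent.Lemmas
import Mathlib.LinearAlgebra.FiniteDimensional.Lemmas
import Mathlib.Algebra.Module.LinearMap.DivisionRing

/-!
# Nilpotent endomorphisms have a strictly triangular basis
-/

set_option autoImplicit false

open Module

namespace K429.NilpConj

universe u v

/-- a nilpotent endomorphism is strictly upper triangular in a suitable basis -/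
theorem exists_basis {K : Type u} [Field K] (n : ℕ) : ∀ {V : Type v} [AddCommGroup V] [Module K V] [FiniteDimensional K V]
    (_ : finrank K V = n) (f : V →ₗ[K] V) (_ : IsNilpotent f),
    ∃ b : Basis (Fin n) K V, ∀ j, f (b j) ∈ Submodule.span K (b '' {i | i < j}) := by
  induction n with
  | zero =>
    intro V _ _ _ hn f hf
    exact ⟨finBasisOfFinrankEq K V hn, fun j => j.elim0⟩
  | succ n ih =>
    intro V _ _ _ hn f hf
    have hnt : Nontrivial V := Module.nontrivial_of_finrank_pos (R := K) (by omega)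
    have hlt : LinearMap.range f < ⊤ := by
      rw [lt_top_iff_ne_top]
      intro h
      rw [LinearMap.range_eq_top] at h
      obtain ⟨N, hN⟩ := hf
      have h1 : Function.Surjective (f ^ N) := by
        rw [Module.End.coe_pow]
        exact h.iterate N
      obtain ⟨v, hv⟩ := exists_ne (0 : V)
      obtain ⟨w, hw⟩ := h1 v
      rw [hN] at hw
      exact hv (by simpa using hw.symm)
    obtain ⟨φ, hφ0, hφ⟩ := Submodule.exists_le_ker_of_lt_top _ hlt
    obtain ⟨v, hv⟩ : ∃ v, φ v ≠ 0 := by
      by_contra! hcon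
      exact hφ0 (LinearMap.ext hcon)
    have hWn : finrank K (LinearMap.ker φ) = n := by
      have h1 := LinearMap.finrank_range_add_finrank_ker φ
      have h2 : LinearMap.range φ = ⊤ := LinearMap.range_eq_top.mpr (LinearMap.surjective hφ0)
      rw [h2, finrank_top, finrank_self] at h1
      omega
    have hmaps : Set.MapsTo f (LinearMap.ker φ) (LinearMap.ker φ) := fun x _ => hφ ⟨x, rfl⟩
    obtain ⟨b', hb'⟩ := ih hWn (f.restrict hmaps) (Module.End.isNilpotent.restrict hmaps hf)
    have hli : ∀ (c : K), ∀ x ∈ LinearMap.ker φ, c • v + x = 0 → c = 0 := by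
      intro c x hx h
      have h1 := congrArg φ h
      rw [map_add, map_smul, map_zero, LinearMap.mem_ker.mp hx, add_zero, smul_eq_mul] at h1
      exact (mul_eq_zero.mp h1).resolve_right hv
    have hsp : ∀ z : V, ∃ c : K, z + c • v ∈ LinearMap.ker φ := by
      intro z
      refine ⟨-(φ z * (φ v)⁻¹), ?_⟩
      rw [LinearMap.mem_ker, map_add, map_smul, smul_eq_mul]
      field_simp
      ring
    refine ⟨Basis.mkFinSnoc b' v hli hsp, fun j => ?_⟩
    rw [Basis.coe_mkFinSnoc]
    refine Fin.lastCases ?_ (fun j => ?_) j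
    · rw [Fin.snoc_last]
      have h1 : f v ∈ LinearMap.ker φ := hφ ⟨v, rfl⟩
      have h2 : (⟨f v, h1⟩ : LinearMap.ker φ) ∈ Submodule.span K (Set.range b') := by
        rw [b'.span_eq]; trivial
      have h3 := Submodule.mem_map_of_mem (f := (LinearMap.ker φ).subtype) h2
      rw [Submodule.map_span] at h3
      refine Submodule.span_mono ?_ h3
      rintro _ ⟨_, ⟨i, rfl⟩, rfl⟩
      exact ⟨i.castSucc, Fin.castSucc_lt_last i, by simp⟩
    · rw [Fin.snoc_castSucc]
      have h3 := Submodule.mem_map_of_mem (f := (LinearMap.ker φ).subtype) (hb' j)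
      rw [Submodule.map_span] at h3
      refine Submodule.span_mono ?_ h3
      rintro _ ⟨_, ⟨i, hi, rfl⟩, rfl⟩
      exact ⟨i.castSucc, by simpa using hi, by simp⟩

/-- a nilpotent matrix is conjugate to a strictly upper triangular one -/
theorem exists_conj {K : Type u} [Field K] {n : ℕ} (A : Matrix (Fin n) (Fin n) K) (hA : IsNilpotent A) :
    ∃ g h T : Matrix (Fin n) (Fin n) K, g * h = 1 ∧ (∀ i j, j ≤ i → T i j = 0) ∧ A = g * T * h := by
  have hf : IsNilpotent (Matrix.toLin' A) := by
    have := hA.map (Matrix.toLinAlgEquiv' (R := K) (n := Fin n))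
    exact this
  obtain ⟨b, hb⟩ := exists_basis (K := K) n (V := Fin n → K) (by simp) (Matrix.toLin' A) hf
  refine ⟨(Pi.basisFun K (Fin n)).toMatrix b, b.toMatrix (Pi.basisFun K (Fin n)), LinearMap.toMatrix b b (Matrix.toLin' A),
    Basis.toMatrix_mul_toMatrix_flip _ _, ?_, ?_⟩
  · intro i j hij
    rw [LinearMap.toMatrix_apply]
    have h1 := hb j
    rw [Basis.mem_span_image] at h1
    by_contra hne
    have h2 := h1 (Finsupp.mem_support_iff.mpr hne)
    exact absurd h2 (not_lt.mpr hij)
  · rw [basis_toMatrix_mul_linearMap_toMatrix_mul_basis_toMatrix]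
    have : LinearMap.toMatrix (Pi.basisFun K (Fin n)) (Pi.basisFun K (Fin n)) = LinearMap.toMatrix' := rfl
    rw [this, LinearMap.toMatrix'_toLin']

end K429.NilpConj
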