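import Groth.Agent.S0563
import Groth.Agent.GrSyz.K859.PD
import Mathlib.RingTheory.LocalProperties.ProjectiveDimension
import Mathlib.RingTheory.RegularLocalRing.Polynomial
import Mathlib.RingTheory.KrullDimension.Polynomial

/-!
# Hilbert's syzygy theorem: length of the minimal graded free resolution over a polynomial ring
-/

set_option autoImplicit false
universe u

open CategoryTheory

namespace K429.PolyPD

theorem hasProjectiveDimensionLE (k : Type u) [Field k] (m : ℕ) (M : Type u) [AddCommGroup M]
    [Module (MvPolynomial (Fin m) k) M] [Module.Finite (MvPolynomial (Fin m) k) M] :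
    HasProjectiveDimensionLE (ModuleCat.of (MvPolynomial (Fin m) k) M) m := by
  rw [ModuleCat.hasProjectiveDimensionLE_iff_forall_maximalSpectrum]
  intro p
  haveI : IsRegularRing k := inferInstance
  haveI h1 : IsRegularLocalRing (Localization.AtPrime p.asIdeal) :=
    isRegularRing_iff.mp (inferInstance : IsRegularRing (MvPolynomial (Fin m) k)) p.asIdeal
  have hdim : ringKrullDim (Localization.AtPrime p.asIdeal) ≤ (m : WithBot ℕ∞) := by
    rw [IsLocalization.AtPrime.ringKrullDim_eq_height p.asIdeal]
    refine le_trans (Ideal.height_le_ringKrullDim_of_isPrime) ?_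
    rw [MvPolynomial.ringKrullDim_of_isNoetherianRing]
    simp
  obtain ⟨d, hd⟩ : ∃ d : ℕ, ringKrullDim (Localization.AtPrime p.asIdeal) = d := by
    have h2 : ringKrullDim (Localization.AtPrime p.asIdeal) ≠ ⊥ := ringKrullDim_ne_bot
    obtain ⟨d, hd⟩ := (WithBot.ne_bot_iff_exists).mp h2
    have h3 : d ≤ (m : ℕ∞) := by
      rw [← hd] at hdim
      exact WithBot.coe_le_coe.mp hdim
    have h4 : d ≠ ⊤ := fun h => by
      rw [h] at h3
      exact ENat.coe_ne_top m (top_le_iff.mp h3)
    obtain ⟨e, rfl⟩ := ENat.ne_top_iff_exists.mp h4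
    exact ⟨e, hd.symm⟩
  have hdm : d ≤ m := by
    rw [hd] at hdim
    exact_mod_cast hdim
  have h5 := Groth.Agent.S0563.result (Localization.AtPrime p.asIdeal) d hd
    ((ModuleCat.of (MvPolynomial (Fin m) k) M).localizedModule p.asIdeal.primeCompl)
  exact hasProjectiveDimensionLT_of_ge _ (d + 1) (m + 1) (by omega)

/-- **Hilbert's syzygy theorem**: minimal graded free resolutions over `k[x_1, …, x_m]` have length at most `m`. -/
theorem hasLengthLE (k : Type u) [Field k] (m : ℕ) {M : Type u} [AddCommGroup M]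
    [Module (MvPolynomial (Fin m) k) M] [Module.Finite (MvPolynomial (Fin m) k) M]
    {τ : Type u} [SetLike τ M] [AddSubgroupClass τ M] (ℳ : ℤ → τ) [DirectSum.Decomposition ℳ]
    [SetLike.GradedSMul (GrSyz.stdGr k (Fin m)) ℳ] (F : GrSyz.FreeRes (GrSyz.stdGr k (Fin m)) ℳ)
    (hF : F.IsMinimal (GrSyz.irrel (GrSyz.stdGr k (Fin m))).toIdeal) : F.HasLengthLE m :=
  (K859.PD.hasLengthLE_iff F K859.Std.one_notMem_irrel (K859.PD.iInf_pow_irrel k (Fin m)) hF m).mpr
    (hasProjectiveDimensionLE k m M)

end K429.PolyPD
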