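import Groth.Agent.Variety.K429.TwFam
import Groth.Agent.Variety.K429.PolyPD
import Groth.Agent.GrLC.K761.GrSub
import Groth.Agent.GrSyz.K860.Basic

/-!
# The algebraic input for resolutions by sums of twists on projective space
-/

set_option autoImplicit false
set_option linter.unusedSectionVars false

universe u

open CategoryTheory CategoryTheory.Limits AlgebraicGeometry TopologicalSpace Opposite TopCat

namespace K429.TwAlg

open Groth.Agent Groth.Agent.FormalB.GrTildeSect Groth.Agent.FormalB.GradedQuot Groth.Agent.FormalB.TildeOfPres K429.TwSeq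

variable {k : Type u} [Field k] {n : ℕ}

theorem mem_zdeg_iff_stdGr (z : ℤ) (p : MvPolynomial (Fin (n + 1)) k) :
    p ∈ zdeg (CohB1.polyGrading n k) z ↔ p ∈ GrSyz.stdGr k (Fin (n + 1)) z := by
  rcases lt_or_ge z 0 with h | h
  · rw [zdeg_of_neg h, K860.Basic.stdGr_neg h]
  · lift z to ℕ using h
    rw [zdeg_natCast, K860.Basic.stdGr_nat]

theorem mem_shiftPart_iff {r : ℕ} (e : Fin r → ℕ) (N : ℕ) (v : Fin r → MvPolynomial (Fin (n + 1)) k) :
    v ∈ shiftPart (CohB1.polyGrading n k) e N ↔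
      v ∈ K859.Gr.shiftGr (GrSyz.stdGr k (Fin (n + 1))) (fun j => (e j : ℤ)) (N : ℤ) := by
  rw [mem_shiftPart, K859.Gr.mem_shiftGr]
  refine forall_congr' fun j => ?_
  rw [mem_zdeg_iff_stdGr, sub_eq_add_neg]

theorem isHomogeneous {r : ℕ} (e : Fin r → ℕ) (K : Submodule (MvPolynomial (Fin (n + 1)) k) (Fin r → MvPolynomial (Fin (n + 1)) k))
    (hK : ∀ v ∈ K, ∀ N, comp (CohB1.polyGrading n k) e N v ∈ K) :
    K.IsHomogeneous (K859.Gr.shiftGr (GrSyz.stdGr k (Fin (n + 1))) (fun j => (e j : ℤ))) := by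
  intro i x hx
  obtain ⟨s, hs⟩ := exists_eq_sum_comp (CohB1.polyGrading n k) e x
  change K859.Gr.pr (K859.Gr.shiftGr (GrSyz.stdGr k (Fin (n + 1))) (fun j => (e j : ℤ))) i x ∈ K
  rw [hs, map_sum]
  refine sum_mem fun N _ => ?_
  have hmem := (mem_shiftPart_iff e N _).mp (comp_mem (CohB1.polyGrading n k) e N x)
  by_cases h : (N : ℤ) = i
  · subst h
    rw [K859.Gr.pr_of_mem _ hmem]
    exact hK x hx N
  · rw [K859.Gr.pr_of_mem_ne _ hmem h]
    exact zero_mem _

theorem lin_eq_mulVecLin {a b : ℕ} (D : Matrix (Fin a) (Fin b) (MvPolynomial (Fin (n + 1)) k)) :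
    lin (fun l j => D j l) = D.mulVecLin := by
  ext w j
  simp only [LinearMap.comp_apply, lin_apply, Matrix.mulVecLin_apply, Matrix.mulVec, dotProduct]
  refine congrArg _ (Finset.sum_congr rfl fun l _ => mul_comm _ _)

/-- resolution data over the polynomial ring -/
theorem exists_data {r : ℕ} (e : Fin r → ℕ) (K : Submodule (MvPolynomial (Fin (n + 1)) k) (Fin r → MvPolynomial (Fin (n + 1)) k))
    (hK : ∀ v ∈ K, ∀ N, comp (CohB1.polyGrading n k) e N v ∈ K) :
    ∃ (rk : ℕ → ℕ) (e' : ∀ i, Fin (rk i) → ℕ) (V : Fin (rk 0) → Fin r → MvPolynomial (Fin (n + 1)) k)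
      (B : ∀ i, Fin (rk (i + 1)) → Fin (rk i) → MvPolynomial (Fin (n + 1)) k),
      (∀ l, V l ∈ shiftPart (CohB1.polyGrading n k) e (e' 0 l)) ∧
      (∀ i l, B i l ∈ shiftPart (CohB1.polyGrading n k) (e' i) (e' (i + 1) l)) ∧
      LinearMap.range (lin V) ⊔ K = ⊤ ∧ K.comap (lin V) = Submodule.span _ (Set.range (B 0)) ∧
      (∀ i, LinearMap.ker (lin (B i)) = Submodule.span _ (Set.range (B (i + 1)))) ∧
      ∀ i, n + 1 < i → rk i = 0 := by
  have hhom := isHomogeneous e K hK
  letI := K761.Gr.quoDec (K859.Gr.shiftGr (GrSyz.stdGr k (Fin (n + 1))) (fun j => (e j : ℤ))) hhom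
  letI := K761.Gr.quoGSMul (GrSyz.stdGr k (Fin (n + 1)))
    (K859.Gr.shiftGr (GrSyz.stdGr k (Fin (n + 1))) (fun j => (e j : ℤ))) K
  obtain ⟨G, hG⟩ := K859.MinGen.exists_freeRes_isMinimal (k := k) (σ := Fin (n + 1))
    (K761.Gr.quoGr (K859.Gr.shiftGr (GrSyz.stdGr k (Fin (n + 1))) (fun j => (e j : ℤ))) K)
  have hlen := PolyPD.hasLengthLE k (n + 1) _ G hG
  have h1 : (1 : MvPolynomial (Fin (n + 1)) k) ∉ (GrSyz.irrel (GrSyz.stdGr k (Fin (n + 1)))).toIdeal :=
    K859.Std.one_notMem_irrel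
  -- the degrees are nonnegative
  have hdeg : ∀ i b, 0 ≤ G.deg i b := by
    intro i
    induction i with
    | zero =>
      intro b
      by_contra hneg
      push Not at hneg
      obtain ⟨v, hv, hvb⟩ := K761.Gr.mem_quoGr (ℳ := K859.Gr.shiftGr (GrSyz.stdGr k (Fin (n + 1))) (fun j => (e j : ℤ)))
        |>.mp (G.aug_mem b)
      have hv0 : v = 0 := by
        funext j
        exact K860.Basic.eq_zero_of_neg (by have := Int.natCast_nonneg (e j); change G.deg 0 b - (e j : ℤ) < 0; omega) (hv j)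
      have haug : G.aug b = 0 := by rw [← hvb, hv0, map_zero]
      have h2 := K859.MinBasic.mem_of_mem_ker_aug G hG (Pi.single b 1) (by
        rw [LinearMap.mem_ker]
        change Fintype.linearCombination _ G.aug (Pi.single b 1) = 0
        rw [Fintype.linearCombination_apply_single, haug, smul_zero]) b
      rw [Pi.single_eq_same] at h2
      exact h1 h2
    | succ i ih =>
      intro b
      obtain ⟨a, ha⟩ := K859.MinBasic.exists_entry_ne_zero G h1 hG i b
      have h2 := G.d_mem i a b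
      by_contra hneg
      push Not at hneg
      exact ha (K860.Basic.eq_zero_of_neg (by have := ih a; omega) h2)
  choose V hV hVaug using fun b => K761.Gr.mem_quoGr
    (ℳ := K859.Gr.shiftGr (GrSyz.stdGr k (Fin (n + 1))) (fun j => (e j : ℤ))) |>.mp (G.aug_mem b)
  have hcast : ∀ i b, ((G.deg i b).toNat : ℤ) = G.deg i b := fun i b => Int.toNat_of_nonneg (hdeg i b)
  have hlinV : K.mkQ.comp (lin V) = G.augLin := by
    refine LinearMap.ext fun w => ?_
    rw [LinearMap.comp_apply, lin, Fintype.linearCombination_apply, map_sum]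
    change _ = Fintype.linearCombination _ G.aug w
    rw [Fintype.linearCombination_apply]
    exact Finset.sum_congr rfl fun l _ => by rw [map_smul, hVaug]
  refine ⟨G.rk, fun i b => (G.deg i b).toNat, V, fun i b a => G.d i a b, ?_, ?_, ?_, ?_, ?_, ?_⟩
  · intro l
    rw [mem_shiftPart_iff, hcast]
    exact hV l
  · intro i l
    rw [mem_shiftPart_iff, hcast]
    intro a
    simp only [hcast]
    exact G.d_mem i a l
  · rw [eq_top_iff]
    intro v _
    obtain ⟨w, hw⟩ := G.aug_surjective (K.mkQ v)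
    have h2 : v - lin V w ∈ K := by
      rw [← Submodule.Quotient.mk_eq_zero, ← Submodule.mkQ_apply, map_sub, ← LinearMap.comp_apply, hlinV, sub_eq_zero]
      exact hw.symm
    rw [Submodule.mem_sup]
    exact ⟨lin V w, ⟨w, rfl⟩, v - lin V w, h2, by abel⟩
  · have h2 : K.comap (lin V) = LinearMap.ker G.augLin := by
      rw [← hlinV, LinearMap.ker_comp, Submodule.ker_mkQ]
    rw [h2]
    refine G.exact_zero.trans ?_
    rw [← Fintype.range_linearCombination, ← lin_eq_mulVecLin]
    rfl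
  · intro i
    rw [lin_eq_mulVecLin (G.d i), G.exact_succ i, ← Fintype.range_linearCombination, ← lin_eq_mulVecLin]
    rfl
  · exact hlen

end K429.TwAlg
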