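import Groth.Agent.Variety.K429.TwSeq

/-!
# Local exactness of sequences of sums of twists
-/

set_option autoImplicit false
set_option linter.unusedSectionVars false

universe u

open CategoryTheory CategoryTheory.Limits AlgebraicGeometry TopologicalSpace Opposite TopCat

namespace K429.TwExact

open Groth.Agent Groth.Agent.FormalB.GrTildeSect Groth.Agent.FormalB.GlueHom Groth.Agent.FormalB.TwistFrac
open Groth.Agent.FormalB.TildeHom Groth.Agent.FormalB.GradedQuot Groth.Agent.FormalB.TildeOfPres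
open Groth.Agent.FormalB.TildeIso K429.TwSeq

variable {R A : Type u} [CommRing R] [CommRing A] [Algebra R A] {𝒜 : ℕ → Submodule R A} [GradedAlgebra 𝒜]

/-- finitely many sections of twists are fractions with a common denominator near a point -/
theorem exists_common {J : Type} [Fintype J] (e : J → ℕ) {U : (Proj 𝒜).Opens} (z : ∀ j, Γ(Twist.twist 𝒜 (-(e j : ℤ)), U))
    (x : ProjectiveSpectrum 𝒜) (hx : x ∈ U) :
    ∃ (n : ℕ) (g : A) (hg : g ∈ 𝒜 n) (V : (Proj 𝒜).Opens) (hV : V ≤ U) (hVg : NV V g) (v : J → A)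
      (hv : v ∈ shiftPart 𝒜 e n), V = Proj.basicOpen 𝒜 g ∧ x ∈ V ∧
      ∀ j, res _ hV (z j) = tfrac (-(e j : ℤ)) V hg hVg (hv j) := by
  classical
  choose W hWU d g a hg hW ha hxW hWt using fun j => exists_tfrac (z j) x hx
  let W₀ : (Proj 𝒜).Opens := U ⊓ Finset.univ.inf W
  have hW₀ : ∀ j, W₀ ≤ W j := fun j => inf_le_right.trans (Finset.inf_le (Finset.mem_univ j))
  have hxW₀ : x ∈ W₀ := by
    refine ⟨hx, ?_⟩
    have : ∀ s : Finset J, x ∈ s.inf W := by
      intro s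
      induction s using Finset.induction_on with
      | empty => trivial
      | insert b s _ ih => rw [Finset.inf_insert]; exact ⟨hxW b, ih⟩
    exact this _
  have hs : (∏ j, g j) ∈ 𝒜 (∑ j, d j) := SetLike.prod_mem_graded 𝒜 d g fun j _ => hg j
  have hsW : NV W₀ (∏ j, g j) := by
    have : ∀ s : Finset J, NV W₀ (∏ j ∈ s, g j) := by
      intro s
      induction s using Finset.induction_on with
      | empty => simpa using NV.one W₀
      | insert b s hb ih => rw [Finset.prod_insert hb]; exact ((hW b).mono (hW₀ b)).mul ih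
    exact this _
  let v : J → A := fun j => (∏ l ∈ Finset.univ.erase j, g l) * a j
  have hv : v ∈ shiftPart 𝒜 e (∑ j, d j) := by
    intro j
    refine smul_mem_zdeg_of_eq 𝒜 (SetLike.prod_mem_graded 𝒜 d g fun j _ => hg j) (ha j) ?_
    rw [← Finset.add_sum_erase Finset.univ d (Finset.mem_univ j)]
    push_cast
    ring
  have h1 : ∀ j, res _ inf_le_left (z j) = tfrac (-(e j : ℤ)) W₀ hs hsW (hv j) := by
    intro j
    have : res _ (inf_le_left : W₀ ≤ U) (z j) = res _ (hW₀ j) (res _ (hWU j) (z j)) := (res_res _ _ _ _).symm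
    rw [this, hWt, res_tfrac]
    refine tfrac_congr ?_
    change _ = g j * ((∏ l ∈ Finset.univ.erase j, g l) * a j)
    rw [← mul_assoc, Finset.mul_prod_erase _ _ (Finset.mem_univ j)]
  obtain ⟨m, h, -, hh, hhx, hhW⟩ := exists_basicOpen_le 𝒜 x hxW₀
  have hle : Proj.basicOpen 𝒜 (h * ∏ j, g j) ≤ W₀ := fun y hy => hhW y (fun hmem => hy (Ideal.mul_mem_right _ _ hmem))
  refine ⟨m + ∑ j, d j, h * ∏ j, g j, SetLike.mul_mem_graded hh hs, Proj.basicOpen 𝒜 (h * ∏ j, g j),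
    hle.trans inf_le_left, NV.basicOpen _, h • v, smul_mem_shiftPart 𝒜 e hh hv, rfl, mul_notMem hhx (hsW x hxW₀), fun j => ?_⟩
  rw [← res_res _ (inf_le_left : W₀ ≤ U) hle, h1 j, res_tfrac]
  refine tfrac_congr ?_
  change (h * ∏ j, g j) * v j = (∏ j, g j) * (h * v j)
  ring

variable {ι : Type} [Fintype ι] {c : ℕ} (hc : 0 < c) {f : ι → A} (hf : ∀ i, f i ∈ 𝒜 c)
  (hcov : ∀ x : ProjectiveSpectrum 𝒜, ∃ i, f i ∉ x.asHomogeneousIdeal)
variable {J L : Type} [Fintype J] [Fintype L] (e : J → ℕ) (e' : L → ℕ) {F : (Proj 𝒜).Modules}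
  (φ : ∀ j, Twist.twist 𝒜 (-(e j : ℤ)) ⟶ F) (B : L → J → A) (hB : ∀ l, B l ∈ shiftPart 𝒜 e (e' l))

include hc hf hcov in
/-- local exactness -/
theorem exists_local_lift (hF : SheafOfModules.IsQuasicoherent (R := (Proj 𝒜).ringCatSheaf) F)
    (hker : ker e φ ≤ Submodule.span A (Set.range B)) {U : (Proj 𝒜).Opens}
    (z : ∀ j, Γ(Twist.twist 𝒜 (-(e j : ℤ)), U)) (hz : ∑ j, (φ j).app U (z j) = 0)
    (x : ProjectiveSpectrum 𝒜) (hx : x ∈ U) :
    ∃ (V : (Proj 𝒜).Opens) (h : V ≤ U) (t : ∀ l, Γ(Twist.twist 𝒜 (-(e' l : ℤ)), V)), x ∈ V ∧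
      ∀ j, res _ h (z j) = ∑ l, (mz (m' := -(e j : ℤ)) (d := (e' l : ℤ) + (-(e j : ℤ))) (by ring) (B l j) (hB l j)).app V (t l) := by
  obtain ⟨n, g, hg, V, hVU, hVg, v, hv, hVeq, hxV, hzv⟩ := exists_common e z x hx
  have h0 : ev e φ V hg hVg hv = 0 := by
    have h1 := congrArg (res F hVU) hz
    rw [res_sum, res_zero] at h1
    rw [← h1, ev]
    refine Finset.sum_congr rfl fun j _ => ?_
    rw [← hzv j, ← app_res]
  obtain ⟨m, N, hnull⟩ := exists_null e φ hc hf hcov hF hg hVeq hVg hv h0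
  have hw := hnull.choose
  have hmem := hker (mem_ker_of_null e φ hnull)
  rw [← Fintype.range_linearCombination] at hmem
  obtain ⟨c₀, hc₀⟩ := hmem
  -- take the component of degree `m * n + n`
  have hdeg : g ^ m • v ∈ shiftPart 𝒜 e (m * n + n) := smul_mem_shiftPart 𝒜 e (mem_pow hg m) hv
  let c₁ := comp 𝒜 e' (m * n + n) c₀
  have hc₁ : lin B c₁ = g ^ m • v := by
    rw [← comp_lin e e' B hB, show lin B c₀ = g ^ m • v from hc₀, comp_of_mem 𝒜 e hdeg]
  have hc₁mem : c₁ ∈ shiftPart 𝒜 e' (m * n + n) := comp_mem 𝒜 e' _ _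
  have hgm : g ^ m * g ∈ 𝒜 (m * n + n) := SetLike.mul_mem_graded (mem_pow hg m) hg
  have hgV : NV V (g ^ m * g) := (hVg.pow m).mul hVg
  refine ⟨V, hVU, fun l => tfrac (-(e' l : ℤ)) V hgm hgV (hc₁mem l), hxV, fun j => ?_⟩
  rw [hzv j]
  have hmem2 : ∀ l, B l j * c₁ l ∈ zdeg 𝒜 (((m * n + n : ℕ) : ℤ) + (-(e j : ℤ))) := fun l =>
    mul_mem_zdeg (by ring) (hB l j) (hc₁mem l)
  have h2 : ∀ l, (mz (m' := -(e j : ℤ)) (d := (e' l : ℤ) + (-(e j : ℤ))) (by ring) (B l j) (hB l j)).app V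
      (tfrac (-(e' l : ℤ)) V hgm hgV (hc₁mem l)) = tfrac (-(e j : ℤ)) V hgm hgV (hmem2 l) := fun l =>
    mz_tfrac _ _ _ V hgm hgV (hc₁mem l) (hmem2 l)
  simp only [h2]
  have h3 : ∑ l, B l j * c₁ l = g ^ m * v j := by
    have := congrFun hc₁ j
    rw [lin_apply] at this
    rw [← smul_eq_mul, ← Pi.smul_apply, ← this]
    exact Finset.sum_congr rfl fun l _ => mul_comm _ _
  rw [← tfrac_sum Finset.univ (-(e j : ℤ)) V hgm hgV (fun l => B l j * c₁ l) hmem2 (sum_mem fun l _ => hmem2 l) rfl]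
  refine tfrac_congr ?_
  rw [h3]
  ring

end K429.TwExact
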