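import Groth.Agent.Variety.K429.TwRes

/-!
# Coherent sheaves on `Proj` are locally generated by families `O(-e_j) ⟶ F`, `e_j ≥ 0`
-/

set_option autoImplicit false
set_option linter.unusedSectionVars false

universe u

open CategoryTheory CategoryTheory.Limits AlgebraicGeometry TopologicalSpace Opposite TopCat

namespace K429.TwFam

open Groth.Agent Groth.Agent.FormalB.GrTildeSect Groth.Agent.FormalB.GlueHom Groth.Agent.FormalB.TwistFrac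
open Groth.Agent.FormalB.TildeHom Groth.Agent.FormalB.GradedQuot Groth.Agent.FormalB.TildeOfPres
open Groth.Agent.FormalB.TildeIso K429.TwSeq K429.TwExact K429.TwRes Groth.Agent.FormalB.TildeMain Groth.Agent.FormalB

variable {R A : Type u} [CommRing R] [CommRing A] [Algebra R A] {𝒜 : ℕ → Submodule R A} [GradedAlgebra 𝒜]

theorem exists_family [IsNoetherianRing A] {F : (Proj 𝒜).Modules} {r : ℕ} (d : Fin r → ℤ)
    (φ : (∐ fun j : Fin r => Twist.twist 𝒜 (d j)) ⟶ F) (hφ : Epi φ) :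
    ∃ (J : Type) (_ : Fintype J) (e : J → ℕ) (ψ : ∀ j, Twist.twist 𝒜 (-(e j : ℤ)) ⟶ F),
      ∀ (U : (Proj 𝒜).Opens) (y : Γ(F, U)), ∀ x ∈ U, ∃ (V : (Proj 𝒜).Opens) (h : V ≤ U)
        (t : ∀ j, Γ(Twist.twist 𝒜 (-(e j : ℤ)), V)), x ∈ V ∧ GlueHom.res F h y = ∑ j, (ψ j).app V (t j) := by
  classical
  obtain ⟨n, f, c, hc, hf, hcov⟩ := ProjCover.exists_cover 𝒜
  let N : Fin r → ℕ := fun j => (d j).natAbs
  have hN : ∀ j, 0 ≤ (N j : ℤ) * c - d j := by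
    intro j
    have h1 : d j ≤ (N j : ℤ) := Int.le_natAbs
    have h2 : (N j : ℤ) ≤ (N j : ℤ) * c := by
      have : (1 : ℤ) ≤ c := by exact_mod_cast hc
      nlinarith [Int.natCast_nonneg (N j)]
    linarith
  let e : Fin r × Fin n → ℕ := fun p => ((N p.1 : ℤ) * c - d p.1).toNat
  have he : ∀ p, -(e p : ℤ) + ((N p.1 * c : ℕ) : ℤ) = d p.1 := by
    intro p
    simp only [e]
    rw [Int.toNat_of_nonneg (hN p.1)]
    push_cast
    ring
  let μ : ∀ p : Fin r × Fin n, Twist.twist 𝒜 (-(e p : ℤ)) ⟶ Twist.twist 𝒜 (d p.1) := fun p =>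
    VarietyB.TwistMul.mulMap (⟨f p.2 ^ N p.1, mem_pow (hf p.2) (N p.1)⟩ : 𝒜 (N p.1 * c)) (he p)
  let ψ : ∀ p : Fin r × Fin n, Twist.twist 𝒜 (-(e p : ℤ)) ⟶ F := fun p =>
    μ p ≫ Sigma.ι (fun j : Fin r => Twist.twist 𝒜 (d j)) p.1 ≫ φ
  refine ⟨Fin r × Fin n, inferInstance, e, ψ, ?_⟩
  intro U y x hx
  obtain ⟨V, hVU, z, hxV, hz⟩ := Dcoh.Restrict.exists_local_preimage φ U y x hx
  obtain ⟨i, hi⟩ := hcov x
  obtain ⟨t, rfl⟩ := exists_sum_coprod _ z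
  have hi' : ∀ j : Fin r, V ⊓ Proj.basicOpen 𝒜 (f i) ≤ Proj.basicOpen 𝒜 (f i ^ N j) := fun j y hy =>
    pow_notMem hy.2 _
  choose t' ht' using fun j : Fin r => (VarietyB.TwistMul.mulMap_app_bijective
    (⟨f i ^ N j, mem_pow (hf i) (N j)⟩ : 𝒜 (N j * c)) (he (j, i)) (V ⊓ Proj.basicOpen 𝒜 (f i)) (hi' j)).2
      (GlueHom.res _ (inf_le_left : V ⊓ Proj.basicOpen 𝒜 (f i) ≤ V) (t j))
  obtain ⟨t'', ht1, ht2⟩ : ∃ t'' : ∀ p : Fin r × Fin n, Γ(Twist.twist 𝒜 (-(e p : ℤ)), V ⊓ Proj.basicOpen 𝒜 (f i)),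
      (∀ j, t'' (j, i) = t' j) ∧ ∀ j l, l ≠ i → t'' (j, l) = 0 := by
    refine ⟨fun p => if h : i = p.2 then Eq.rec (motive := fun l _ =>
      Γ(Twist.twist 𝒜 (-(e (p.1, l) : ℤ)), V ⊓ Proj.basicOpen 𝒜 (f i))) (t' p.1) h else 0, fun j => ?_,
      fun j l hl => ?_⟩
    · exact dif_pos (c := i = i) rfl
    · exact dif_neg (c := i = l) hl.symm
  refine ⟨V ⊓ Proj.basicOpen 𝒜 (f i), inf_le_left.trans hVU, t'', ⟨hxV, hi⟩, ?_⟩
  rw [Fintype.sum_prod_type]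
  have h1 : GlueHom.res F (inf_le_left.trans hVU : V ⊓ Proj.basicOpen 𝒜 (f i) ≤ U) y =
      ∑ j, (ψ (j, i)).app (V ⊓ Proj.basicOpen 𝒜 (f i)) (t' j) := by
    rw [← GlueHom.res_res F hVU inf_le_left]
    have : GlueHom.res F hVU y = φ.app V (∑ j, (Sigma.ι (fun j : Fin r => Twist.twist 𝒜 (d j)) j).app V (t j)) := hz.symm
    rw [this, map_sum, GlueHom.res_sum]
    refine Finset.sum_congr rfl fun j _ => ?_
    rw [← GlueHom.app_res, ← GlueHom.app_res, ← ht' j]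
    rfl
  rw [h1]
  refine Finset.sum_congr rfl fun j _ => ?_
  rw [Finset.sum_eq_single i]
  · rw [ht1]
  · intro l _ hl
    rw [ht2 j l hl, map_zero]
  · intro h
    exact absurd (Finset.mem_univ _) h

/-- the map out of the sum of twists attached to a generating combination of a generating family is an epimorphism -/
theorem epi_desc {J : Type} [Fintype J] (e : J → ℕ) {F : (Proj 𝒜).Modules} (ψ : ∀ j, Twist.twist 𝒜 (-(e j : ℤ)) ⟶ F)
    (hLS : ∀ (U : (Proj 𝒜).Opens) (y : Γ(F, U)), ∀ x ∈ U, ∃ (V : (Proj 𝒜).Opens) (h : V ≤ U)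
        (t : ∀ j, Γ(Twist.twist 𝒜 (-(e j : ℤ)), V)), x ∈ V ∧ GlueHom.res F h y = ∑ j, (ψ j).app V (t j))
    {r' : ℕ} (e' : Fin r' → ℕ) (B : Fin r' → J → A) (hB : ∀ l, B l ∈ shiftPart 𝒜 e (e' l))
    (hgen : LinearMap.range (lin B) ⊔ ker e ψ = ⊤) : Epi (Sigma.desc (comb e e' ψ B hB)) := by
  refine PerfB.ModExact.epi_of_locally_surjective _ fun U y x hx => ?_
  obtain ⟨V, hVU, t, hxV, ht⟩ := hLS U y x hx
  obtain ⟨n, g, hg, W, hWV, hWg, v, hv, -, hxW, hzv⟩ := exists_common e t x hxV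
  have h1 : v ∈ LinearMap.range (lin B) ⊔ ker e ψ := hgen ▸ Submodule.mem_top
  obtain ⟨_, ⟨c₀, rfl⟩, κ, hκ, hsum⟩ := Submodule.mem_sup.mp h1
  have h2 : lin B (comp 𝒜 e' n c₀) + comp 𝒜 e n κ = v := by
    have := congrArg (comp 𝒜 e n) hsum
    rw [comp_add, comp_lin e e' B hB, comp_of_mem 𝒜 e hv] at this
    exact this
  have hc : comp 𝒜 e' n c₀ ∈ shiftPart 𝒜 e' n := comp_mem 𝒜 e' n c₀
  refine ⟨W, hWV.trans hVU, hxW, ∑ l, (Sigma.ι (fun j : Fin r' => Twist.twist 𝒜 (-(e' j : ℤ))) l).app W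
    (tfrac (-(e' l : ℤ)) W hg hWg (hc l)), ?_⟩
  have h3 : (Sigma.desc (comb e e' ψ B hB)).app W (∑ l, (Sigma.ι (fun j : Fin r' => Twist.twist 𝒜 (-(e' j : ℤ))) l).app W
    (tfrac (-(e' l : ℤ)) W hg hWg (hc l))) = ev e' (comb e e' ψ B hB) W hg hWg hc := desc_app_sum e' _ _
  rw [h3, ev_comb]
  change _ = GlueHom.res F (hWV.trans hVU) y
  rw [← GlueHom.res_res F hVU hWV, ht, res_sum]
  have h4 : ∀ j, res F hWV ((ψ j).app V (t j)) = (ψ j).app W (tfrac (-(e j : ℤ)) W hg hWg (hv j)) := by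
    intro j
    rw [← app_res, hzv j]
  simp only [h4]
  change ev e ψ W hg hWg _ = ev e ψ W hg hWg hv
  apply ev_eq_of_sub_mem_ker
  have h5 : lin B (comp 𝒜 e' n c₀) - v = - comp 𝒜 e n κ := by
    rw [← h2]; abel
  rw [h5]
  exact neg_mem (comp_mem_ker e ψ hκ n)

end K429.TwFam
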