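import Groth.Agent.Variety.K429.TwExact
import Groth.Agent.PerfB.ModExact

/-!
# Exact sequences of sums of twists from exact sequences of graded free modules
-/

set_option autoImplicit false
set_option linter.unusedSectionVars false

universe u

open CategoryTheory CategoryTheory.Limits AlgebraicGeometry TopologicalSpace Opposite TopCat

namespace K429.TwRes

open Groth.Agent Groth.Agent.FormalB.GrTildeSect Groth.Agent.FormalB.GlueHom Groth.Agent.FormalB.TwistFrac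
open Groth.Agent.FormalB.TildeHom Groth.Agent.FormalB.GradedQuot Groth.Agent.FormalB.TildeOfPres
open Groth.Agent.FormalB.TildeIso K429.TwSeq K429.TwExact

variable {R A : Type u} [CommRing R] [CommRing A] [Algebra R A] {𝒜 : ℕ → Submodule R A} [GradedAlgebra 𝒜]

theorem sum_app {X : Scheme.{u}} {M N : X.Modules} {ι : Type*} (s : Finset ι) (ψ : ι → (M ⟶ N)) {U : X.Opens} (t : Γ(M, U)) :
    (∑ j ∈ s, ψ j).app U t = ∑ j ∈ s, (ψ j).app U t := by
  classical
  induction s using Finset.induction_on with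
  | empty => rw [Finset.sum_empty, Finset.sum_empty]; rfl
  | insert b s hb ih => rw [Finset.sum_insert hb, Finset.sum_insert hb, ← ih]; rfl

section General

variable {J L : Type} [Fintype J] [Fintype L] (e : J → ℕ) (e' : L → ℕ) {F G : (Proj 𝒜).Modules}
  (φ : ∀ j, Twist.twist 𝒜 (-(e j : ℤ)) ⟶ F) (B : L → J → A) (hB : ∀ l, B l ∈ shiftPart 𝒜 e (e' l))

theorem comb_comp (ψ : F ⟶ G) (l : L) : comb e e' (fun j => φ j ≫ ψ) B hB l = comb e e' φ B hB l ≫ ψ := by
  rw [comb, comb, Preadditive.sum_comp]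
  refine Finset.sum_congr rfl fun j _ => ?_
  rw [Category.assoc]

/-- a homogeneous vector in the kernel gives the zero map -/
theorem comb_eq_zero (l : L) (h : B l ∈ ker e φ) : comb e e' φ B hB l = 0 := by
  obtain ⟨h1, h2⟩ := null_of_mem_ker e φ h (hB l)
  refine VarietyB.TwistMul.hom_ext_apply _ _ fun U t => ?_
  change _ = (0 : Γ(F, U))
  refine eq_of_local F fun x hx => ?_
  obtain ⟨V, hVU, n, s, a, hs, hV, ha, hxV, hta⟩ := exists_tfrac t x hx
  refine ⟨V, hVU, hxV, ?_⟩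
  rw [← app_res, hta, res_zero, comb, sum_app]
  have hmem : ∀ j, B l j * a ∈ zdeg 𝒜 ((n : ℤ) + (-(e j : ℤ))) := fun j => mul_mem_zdeg (by ring) (hB l j) ha
  have h3 : ∀ j, (mz (m' := -(e j : ℤ)) (d := (e' l : ℤ) + (-(e j : ℤ))) (by ring) (B l j) (hB l j) ≫ φ j).app V
      (tfrac (-(e' l : ℤ)) V hs hV ha) = (φ j).app V (tfrac (-(e j : ℤ)) V hs hV (hmem j)) := by
    intro j
    change (φ j).app V ((mz _ _ _).app V _) = _
    rw [mz_tfrac _ _ _ V hs hV ha (hmem j)]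
  simp only [h3]
  rcases mem_zdeg_iff.mp ha with ⟨i, hi, hai⟩ | rfl
  · have hn : n = i + e' l := by omega
    subst hn
    rw [← h2 i a hai V s hs hV, ev]
    refine Finset.sum_congr rfl fun j _ => ?_
    congr 1
    exact tfrac_congr (by rw [Pi.smul_apply, smul_eq_mul, mul_comm a])
  · refine Finset.sum_eq_zero fun j _ => ?_
    have : tfrac (𝒜 := 𝒜) (-(e j : ℤ)) V hs hV (hmem j) = 0 := by
      rw [← tfrac_zero (-(e j : ℤ)) V hs hV]
      exact tfrac_congr (by simp)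
    rw [this, map_zero]

end General

section Coprod

variable {r r' : ℕ} (e : Fin r → ℕ) (e' : Fin r' → ℕ) {F : (Proj 𝒜).Modules}
  (φ : ∀ j, Twist.twist 𝒜 (-(e j : ℤ)) ⟶ F) (B : Fin r' → Fin r → A) (hB : ∀ l, B l ∈ shiftPart 𝒜 e (e' l))

variable (𝒜) in
/-- the sum of twists -/
noncomputable abbrev E : (Proj 𝒜).Modules := ∐ fun j : Fin r => Twist.twist 𝒜 (-(e j : ℤ))

/-- the injections -/
noncomputable abbrev inj (j : Fin r) : Twist.twist 𝒜 (-(e j : ℤ)) ⟶ E 𝒜 e := Sigma.ι (fun j : Fin r => Twist.twist 𝒜 (-(e j : ℤ))) j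

/-- the map of sums of twists given by a matrix -/
noncomputable def β : E 𝒜 e' ⟶ E 𝒜 e := Sigma.desc (comb e e' (inj e) B hB)

theorem inj_β (l : Fin r') : inj e' l ≫ β e e' B hB = comb e e' (inj e) B hB l := Sigma.ι_desc _ _

theorem β_desc : β e e' B hB ≫ Sigma.desc φ = Sigma.desc (comb e e' φ B hB) := by
  apply Sigma.hom_ext
  intro l
  rw [← Category.assoc]
  refine (congrArg (fun t => t ≫ Sigma.desc φ) (inj_β e e' B hB l)).trans ?_
  rw [← comb_comp, Sigma.ι_desc]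
  congr 1
  funext j
  exact Sigma.ι_desc _ _

theorem β_desc_eq_zero (h : ∀ l, B l ∈ ker e φ) : β e e' B hB ≫ Sigma.desc φ = 0 := by
  rw [β_desc]
  apply Sigma.hom_ext
  intro l
  rw [Sigma.ι_desc, Limits.comp_zero, comb_eq_zero e e' φ B hB l (h l)]

theorem desc_app_sum {U : (Proj 𝒜).Opens} (z : ∀ j, Γ(Twist.twist 𝒜 (-(e j : ℤ)), U)) :
    (Sigma.desc φ).app U (∑ j, (inj e j).app U (z j)) = ∑ j, (φ j).app U (z j) := by
  rw [map_sum]
  refine Finset.sum_congr rfl fun j _ => ?_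
  have : (inj e j ≫ Sigma.desc φ).app U (z j) = (φ j).app U (z j) := by rw [Sigma.ι_desc]
  exact this

variable {ι : Type} [Fintype ι] {c : ℕ} (hc : 0 < c) {f : ι → A} (hf : ∀ i, f i ∈ 𝒜 c)
  (hcov : ∀ x : ProjectiveSpectrum 𝒜, ∃ i, f i ∉ x.asHomogeneousIdeal)

include hc hf hcov in
/-- **exactness** -/
theorem exact_β (hF : SheafOfModules.IsQuasicoherent (R := (Proj 𝒜).ringCatSheaf) F)
    (hker : ker e φ = Submodule.span A (Set.range B)) (w : β e e' B hB ≫ Sigma.desc φ = 0) :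
    (ShortComplex.mk (β e e' B hB) (Sigma.desc φ) w).Exact := by
  refine PerfB.ModExact.exact_of_locally_lifts _ fun U y hy x hx => ?_
  obtain ⟨z, rfl⟩ := FormalB.TildeMain.exists_sum_coprod (fun j : Fin r => Twist.twist 𝒜 (-(e j : ℤ))) (U := U) y
  have hz : ∑ j, (φ j).app U (z j) = 0 := by
    rw [← desc_app_sum e φ z]
    exact hy
  obtain ⟨V, hVU, t, hxV, ht⟩ := exists_local_lift hc hf hcov e e' φ B hB hF hker.le z hz x hx
  refine ⟨V, hVU, hxV, ∑ l, (inj e' l).app V (t l), ?_⟩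
  change (β e e' B hB).app V _ = res (E 𝒜 e) hVU (∑ j, (inj e j).app U (z j))
  have h0 : (β e e' B hB).app V (∑ l, (inj e' l).app V (t l)) = ∑ l, (comb e e' (inj e) B hB l).app V (t l) :=
    desc_app_sum e' (comb e e' (inj e) B hB) t
  rw [h0, res_sum]
  have h1 : ∀ j, res (E 𝒜 e) hVU ((inj e j).app U (z j)) = ∑ l, (inj e j).app V
      ((mz (m' := -(e j : ℤ)) (d := (e' l : ℤ) + (-(e j : ℤ))) (by ring) (B l j) (hB l j)).app V (t l)) := by
    intro j
    rw [← app_res, ht j, map_sum]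
  simp only [h1]
  rw [Finset.sum_comm]
  refine Finset.sum_congr rfl fun l _ => ?_
  rw [comb, sum_app]
  rfl

/-- the kernel of the identity of a sum of twists is zero -/
theorem ker_inj [IsDomain A] (x : ProjectiveSpectrum 𝒜) {f₀ : A} (hf₀ : f₀ ∈ 𝒜 1) (hx : f₀ ∉ x.asHomogeneousIdeal) :
    ker e (inj (𝒜 := 𝒜) e) = ⊥ := by
  rw [eq_bot_iff]
  intro w hw
  rw [Submodule.mem_bot]
  obtain ⟨s, hs⟩ := exists_eq_sum_comp 𝒜 e w
  rw [hs]
  refine Finset.sum_eq_zero fun n _ => ?_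
  obtain ⟨h1, h2⟩ := null_comp_of_mem_ker _ _ hw n
  have hfn : f₀ ^ n ∈ 𝒜 (0 + n) := by
    have := mem_pow hf₀ n
    rw [mul_one] at this
    rwa [zero_add]
  have h3 := h2 0 1 SetLike.GradedOne.one_mem (Proj.basicOpen 𝒜 f₀) (f₀ ^ n) hfn ((NV.basicOpen f₀).pow n)
  funext j
  have h4 := congrArg ((Sigma.π (fun j : Fin r => Twist.twist 𝒜 (-(e j : ℤ))) j).app (Proj.basicOpen 𝒜 f₀)) h3
  rw [ev, map_sum, map_zero] at h4
  rw [Finset.sum_eq_single j] at h4
  · have h5 : ∀ t, (Sigma.π (fun j : Fin r => Twist.twist 𝒜 (-(e j : ℤ))) j).app (Proj.basicOpen 𝒜 f₀)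
        ((inj e j).app (Proj.basicOpen 𝒜 f₀) t) = t := by
      intro t
      change ((inj e j ≫ Sigma.π (fun j : Fin r => Twist.twist 𝒜 (-(e j : ℤ))) j)).app (Proj.basicOpen 𝒜 f₀) t = t
      rw [Sigma.ι_π_eq_id]
      rfl
    rw [h5] at h4
    have h6 := congrArg (fun t => tval t ⟨x, hx⟩) h4
    simp only [tval_tfrac, tval_zero] at h6
    rw [← Localization.mk_zero ⟨f₀ ^ n, pow_notMem hx n⟩, Localization.mk_eq_mk_iff, Localization.r_iff_exists] at h6
    obtain ⟨c, hc⟩ := h6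
    have hc0 : (c : A) ≠ 0 := fun h => c.2 (by rw [h]; exact zero_mem _)
    have hf0 : f₀ ^ n ≠ 0 := fun h => pow_notMem hx n (by rw [h]; exact zero_mem _)
    have h7 : (c : A) * (f₀ ^ n * (1 • comp 𝒜 e n w) j) = 0 := by simpa using hc
    have h8 := (mul_eq_zero.mp ((mul_eq_zero.mp h7).resolve_left hc0)).resolve_left hf0
    rwa [one_smul] at h8
  · intro j' _ hj'
    have h5 : ∀ t, (Sigma.π (fun j : Fin r => Twist.twist 𝒜 (-(e j : ℤ))) j).app (Proj.basicOpen 𝒜 f₀)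
        ((inj e j').app (Proj.basicOpen 𝒜 f₀) t) = 0 := by
      intro t
      change ((inj e j' ≫ Sigma.π (fun j : Fin r => Twist.twist 𝒜 (-(e j : ℤ))) j)).app (Proj.basicOpen 𝒜 f₀) t = 0
      rw [Sigma.ι_π_of_ne _ hj']
      rfl
    rw [h5]
  · intro h
    exact absurd (Finset.mem_univ _) h

end Coprod

end K429.TwRes
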