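import Groth.Agent.FormalB.TildeMain

/-!
# Maps between sums of twists given by matrices of forms

Over `Proj 𝒜`: for a family `φ_j : O(-e_j) ⟶ F` and vectors `B_l ∈ A^J` homogeneous of degree `e'_l`
the family `comb B φ l = ∑_j B_{lj} · φ_j : O(-e'_l) ⟶ F`.
-/

set_option autoImplicit false
set_option linter.unusedSectionVars false

universe u

open CategoryTheory CategoryTheory.Limits AlgebraicGeometry TopologicalSpace Opposite TopCat

namespace K429.TwSeq

open Groth.Agent Groth.Agent.FormalB.GrTildeSect Groth.Agent.FormalB.GlueHom Groth.Agent.FormalB.TwistFrac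
open Groth.Agent.FormalB.TildeHom Groth.Agent.FormalB.GradedQuot Groth.Agent.FormalB.TildeOfPres
open Groth.Agent.FormalB.TildeIso

variable {R A : Type u} [CommRing R] [CommRing A] [Algebra R A] {𝒜 : ℕ → Submodule R A} [GradedAlgebra 𝒜]

/-- multiplication by a homogeneous element of degree `d`, for any integer `d` -/
noncomputable def mz {m m' d : ℤ} (h : m + d = m') (a : A) (ha : a ∈ zdeg 𝒜 d) : Twist.twist 𝒜 m ⟶ Twist.twist 𝒜 m' :=
  if hd : 0 ≤ d then
    VarietyB.TwistMul.mulMap (⟨a, mem_of_mem_zdeg (i := d.toNat) (Int.toNat_of_nonneg hd) ha⟩ : 𝒜 d.toNat)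
      (by rw [Int.toNat_of_nonneg hd]; exact h)
  else 0

theorem tval_mz {m m' d : ℤ} (h : m + d = m') (a : A) (ha : a ∈ zdeg 𝒜 d) (U : (Proj 𝒜).Opens)
    (t : Γ(Twist.twist 𝒜 m, U)) (x : U) :
    tval ((mz h a ha).app U t) x = algebraMap A (Twist.Loc 𝒜 x.1) a * tval t x := by
  unfold mz
  split_ifs with hd
  · rfl
  · have h0 : a = 0 := by
      rw [zdeg_of_neg (by omega)] at ha
      exact (Submodule.mem_bot R).mp ha
    subst h0
    rw [map_zero, zero_mul]
    rfl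

theorem mul_mem_zdeg {c d d' : ℤ} (h : c + d = d') {a b : A} (ha : a ∈ zdeg 𝒜 c) (hb : b ∈ zdeg 𝒜 d) :
    a * b ∈ zdeg 𝒜 d' := by
  rcases mem_zdeg_iff.mp ha with ⟨i, hi, hi'⟩ | rfl
  · exact smul_mem_zdeg_of_eq 𝒜 hi' hb (by rw [hi, h])
  · rw [zero_mul]; exact zero_mem _

theorem mz_tfrac {m m' d : ℤ} (h : m + d = m') (a : A) (ha : a ∈ zdeg 𝒜 d) (U : (Proj 𝒜).Opens) {j : ℕ} {s : A}
    (hs : s ∈ 𝒜 j) (hU : NV U s) {b : A} (hb : b ∈ zdeg 𝒜 (j + m)) (hab : a * b ∈ zdeg 𝒜 (j + m')) :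
    (mz h a ha).app U (tfrac m U hs hU hb) = tfrac m' U hs hU hab := by
  apply tval_ext
  intro x
  rw [tval_mz, tval_tfrac, tval_tfrac, ← Localization.mk_one_eq_algebraMap, Localization.mk_mul]
  congr 1
  exact one_mul _

theorem tfrac_sum {ι : Type*} (T : Finset ι) (n : ℤ) (U : (Proj 𝒜).Opens) {j : ℕ} {s : A} (hs : s ∈ 𝒜 j) (hU : NV U s)
    (a : ι → A) (ha : ∀ i, a i ∈ zdeg 𝒜 (j + n)) {b : A} (hb : b ∈ zdeg 𝒜 (j + n)) (h : b = ∑ i ∈ T, a i) :
    tfrac n U hs hU hb = ∑ i ∈ T, tfrac n U hs hU (ha i) := by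
  classical
  induction T using Finset.induction_on generalizing b with
  | empty =>
    rw [Finset.sum_empty] at h
    subst h
    rw [Finset.sum_empty]
    exact tfrac_zero n U hs hU
  | insert i T hi ih =>
    rw [Finset.sum_insert hi] at h
    rw [Finset.sum_insert hi, ← ih (sum_mem fun i _ => ha i) rfl, tfrac_add]
    exact tfrac_congr (by rw [h])

section Comb

variable {J L : Type} [Fintype J] [Fintype L] (e : J → ℕ) (e' : L → ℕ) {F : (Proj 𝒜).Modules}
  (φ : ∀ j, Twist.twist 𝒜 (-(e j : ℤ)) ⟶ F) (B : L → J → A) (hB : ∀ l, B l ∈ shiftPart 𝒜 e (e' l))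

/-- the family of maps given by a matrix -/
noncomputable def comb (l : L) : Twist.twist 𝒜 (-(e' l : ℤ)) ⟶ F :=
  ∑ j, mz (d := (e' l : ℤ) + (-(e j : ℤ))) (by ring) (B l j) (hB l j) ≫ φ j

/-- the linear map of the matrix -/
noncomputable def lin : (L → A) →ₗ[A] (J → A) := Fintype.linearCombination A B

theorem lin_apply (w : L → A) (j : J) : lin B w j = ∑ l, w l * B l j := by
  rw [lin, Fintype.linearCombination_apply, Finset.sum_apply]
  rfl

include hB in
theorem lin_mem {n : ℕ} {w : L → A} (hw : w ∈ shiftPart 𝒜 e' n) : lin B w ∈ shiftPart 𝒜 e n := by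
  intro j
  rw [lin_apply]
  exact sum_mem fun l _ => mul_mem_zdeg (by ring) (hw l) (hB l j)

include hB in
theorem comp_lin (n : ℕ) (w : L → A) : comp 𝒜 e n (lin B w) = lin B (comp 𝒜 e' n w) := by
  obtain ⟨s, hs⟩ := exists_eq_sum_comp 𝒜 e' w
  have h1 : ∀ m, comp 𝒜 e n (lin B (comp 𝒜 e' m w)) = if m = n then lin B (comp 𝒜 e' n w) else 0 := by
    intro m
    split_ifs with h
    · subst h
      exact comp_of_mem 𝒜 e (lin_mem e e' B hB (comp_mem 𝒜 e' m w))
    · exact comp_of_mem_ne 𝒜 e (Ne.symm h) (lin_mem e e' B hB (comp_mem 𝒜 e' m w))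
  conv_lhs => rw [hs, map_sum, comp_sum]
  simp only [h1]
  rw [Finset.sum_ite_eq']
  split_ifs with h
  · rfl
  · have h2 : comp 𝒜 e' n w = 0 := by
      rw [hs, comp_sum]
      exact Finset.sum_eq_zero fun m hm => comp_of_mem_ne 𝒜 e' (by rintro rfl; exact h hm) (comp_mem 𝒜 e' m w)
    rw [h2, map_zero]

theorem ev_comb (U : (Proj 𝒜).Opens) {n : ℕ} {s : A} (hs : s ∈ 𝒜 n) (hU : NV U s) {w : L → A}
    (hw : w ∈ shiftPart 𝒜 e' n) :
    ev e' (comb e e' φ B hB) U hs hU hw = ev e φ U hs hU (lin_mem e e' B hB hw) := by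
  have happ : ∀ (l : L) (t : Γ(Twist.twist 𝒜 (-(e' l : ℤ)), U)), (comb e e' φ B hB l).app U t =
      ∑ j, (φ j).app U ((mz (d := (e' l : ℤ) + (-(e j : ℤ))) (by ring) (B l j) (hB l j)).app U t) := by
    intro l t
    have h2 : ∀ (s : Finset J) (ψ : J → (Twist.twist 𝒜 (-(e' l : ℤ)) ⟶ F)),
        (∑ j ∈ s, ψ j).app U t = ∑ j ∈ s, (ψ j).app U t := by
      intro s ψ
      classical
      induction s using Finset.induction_on with
      | empty => rw [Finset.sum_empty, Finset.sum_empty]; rfl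
      | insert b s hb ih => rw [Finset.sum_insert hb, Finset.sum_insert hb, ← ih]; rfl
    rw [comb, h2]
    rfl
  have hmem : ∀ (l : L) (j : J), B l j * w l ∈ zdeg 𝒜 ((n : ℤ) + (-(e j : ℤ))) := fun l j =>
    mul_mem_zdeg (by ring) (hB l j) (hw l)
  rw [ev, ev]
  simp only [happ]
  rw [Finset.sum_comm]
  refine Finset.sum_congr rfl fun j _ => ?_
  rw [← map_sum]
  congr 1
  rw [tfrac_sum Finset.univ (-(e j : ℤ)) U hs hU (fun l => B l j * w l) (fun l => hmem l j) (lin_mem e e' B hB hw j)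
    (by rw [lin_apply]; exact Finset.sum_congr rfl fun l _ => mul_comm _ _)]
  refine Finset.sum_congr rfl fun l _ => ?_
  exact mz_tfrac _ _ _ U hs hU (hw l) (hmem l j)

/-- homogeneous elements are in the kernel iff they are killed -/
theorem mem_ker_iff_null {n : ℕ} {w : L → A} (hw : w ∈ shiftPart 𝒜 e' n) (φ' : ∀ l, Twist.twist 𝒜 (-(e' l : ℤ)) ⟶ F) :
    w ∈ ker e' φ' ↔ Null e' φ' n w :=
  ⟨fun h => null_of_mem_ker e' φ' h hw, fun h => mem_ker_of_null e' φ' h⟩

theorem null_comb_iff {n : ℕ} {w : L → A} (hw : w ∈ shiftPart 𝒜 e' n) :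
    Null e' (comb e e' φ B hB) n w ↔ Null e φ n (lin B w) := by
  constructor
  · rintro ⟨hw', h⟩
    refine ⟨lin_mem e e' B hB hw, fun i a ha U s hs hU => ?_⟩
    rw [← h i a ha U s hs hU, ev_comb]
    exact ev_congr e φ (by rw [map_smul])
  · rintro ⟨hw', h⟩
    refine ⟨hw, fun i a ha U s hs hU => ?_⟩
    rw [← h i a ha U s hs hU, ev_comb]
    exact ev_congr e φ (by rw [map_smul])

/-- the kernel of the combined family -/
theorem ker_comb : ker e' (comb e e' φ B hB) = (ker e φ).comap (lin B) := by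
  ext w
  rw [Submodule.mem_comap]
  constructor
  · intro hw
    obtain ⟨s, hs⟩ := exists_eq_sum_comp 𝒜 e' w
    rw [hs, map_sum]
    refine sum_mem fun n _ => ?_
    exact mem_ker_of_null e φ ((null_comb_iff e e' φ B hB (comp_mem 𝒜 e' n w)).mp (null_comp_of_mem_ker _ _ hw n))
  · intro hw
    obtain ⟨s, hs⟩ := exists_eq_sum_comp 𝒜 e' w
    rw [hs]
    refine sum_mem fun n _ => ?_
    refine mem_ker_of_null _ _ ((null_comb_iff e e' φ B hB (comp_mem 𝒜 e' n w)).mpr ?_)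
    rw [← comp_lin e e' B hB]
    exact null_comp_of_mem_ker e φ hw n

end Comb

end K429.TwSeq
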